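import Cfsg.Agent.Mrg.Omega.NOThreeL.Star
import Cfsg.Agent.Omega.NOThreeL.RBig.AxR
import Cfsg.Agent.Mrg.Omega.NOThreeL.RStr.Act
import Cfsg.Agent.Mrg.Omega.NOThreeL.RTools.Two
import Cfsg.Agent.Mrg.Omega.NOThreeL.RTools.One
import Cfsg.Agent.Mrg.Omega.FrameI
import Cfsg.Agent.PLocal.OffenderStep


/-!
# NO-3L, box R, (A), `q > 2`, `V_P` split: `U_H` induces all upper unitriangular matrices (#19602 (4))

`M : NatK F S P (zl S P) D k`, `V = zl S P = V₀ × D`, `V₀` normal in `P` (`D = C_Z(P)`, `DP`), `H` long,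
`[V, U_H] ≠ 1`, `V ≤ O₂(C_G(z))` for all `1 ≠ z ∈ Z ∩ V₀` (`hO`, = (3) of #19602).

* `Spl.axR` : the family `C_U(N_i)`, `lin i`, `N_i = fac i`, `vec` is an `AxR`;
* **`Spl.ind`** : for all `b` some `u ∈ U_H` acts as `up (b i)`;
* **`Spl.off`** : `U_H` offends on `V_P`.
-/

set_option autoImplicit false
set_option Elab.async false

namespace Cfsg.Agent.Omega.NOThreeL.RBig.AxRInst

open Subgroup Cfsg Cfsg.Agent.Omega.MinPar Cfsg.Agent.Omega.Frame Cfsg.Agent.Omega.FrameNOFF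
open Cfsg.Agent.ZN (zl zc o2)
open Cfsg.Agent.ZN.ChoiceBase hiding mem_zc
open Cfsg.Agent.Omega.Node.NO3L Cfsg.Agent.Omega.NOThreeL.Basic
open Cfsg.Agent.Omega.FFThm (Off NatK ActsSL)
open Cfsg.Agent.Omega.NatPair (ap ap_mul ap_one ap_inv_ap exists_ap)
open Cfsg.Agent.Lib.SL2Mat
open Cfsg.Agent.MinSimple.VModule (zl_le le_normalizer_zl zc_le_zl zc_le mem_zc)
open Cfsg.Agent.Omega.NOThreeL.Pair (zl_abel)
open Cfsg.Agent.Omega.IId (cj_mem cj_mem')
open Cfsg.Agent.Omega.NOThreeL.RStr (e_one e_inv sg sg_spec e_conj_line)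
open Cfsg.Agent.Omega.NOThreeL.RBig.AxR (AxR)
open scoped Pointwise

universe u

variable {G : Type u} [Group G] {k : ℕ} {F : Type} [Field F]

/-! ### upper unitriangular action modulo `D` -/

section up

variable {S P D : Subgroup G} (M : NatK F S P (zl S P) D k)

/-- `u` acts as `up (b i)` on `V / D`. -/
def Up (u : G) (b : Fin k → F) : Prop :=
  ∀ v ∈ zl S P, ∀ i, M.e (u * v * u⁻¹) i = ap (up (b i)) (M.e v i)

variable {M}

theorem Up.mul {u u' : G} {b b' : Fin k → F} (hu' : u' ∈ P) (h : Up M u b) (h' : Up M u' b') :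
    Up M (u * u') (b + b') := by
  intro v hv i
  have e : u * u' * v * (u * u')⁻¹ = u * (u' * v * u'⁻¹) * u⁻¹ := by group
  rw [e, h _ (cj_mem hu' hv) i, h' v hv i, ← ap_mul, up_mul]
  rfl

theorem Up.inv {u : G} {b : Fin k → F} (hu : u ∈ P) (h : Up M u b) : Up M u⁻¹ (-b) := by
  intro v hv i
  have h2 := h _ (cj_mem (inv_mem hu) hv) i
  have e : u * (u⁻¹ * v * u⁻¹⁻¹) * u⁻¹ = v := by group
  rw [e] at h2
  rw [h2]
  change _ = ap (up (-b i)) _
  rw [← up_inv, ap_inv_ap]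

theorem Up.cm {u : G} {b : Fin k → F} (hu : u ∈ P) (h : Up M u b) {v : G} (hv : v ∈ zl S P) (i : Fin k) :
    M.e (u * v * u⁻¹ * v⁻¹) i = ![b i * M.e v i 1, 0] := by
  rw [M.mul _ (cj_mem hu hv) _ (inv_mem hv), Pi.add_apply, h v hv i, e_inv M hv, Pi.neg_apply]
  apply NatPair.ext2
  · rw [Pi.add_apply, NatPair.ap_zero']
    simp only [up_00, up_01, Pi.neg_apply]
    change _ = b i * M.e v i 1
    ring
  · rw [Pi.add_apply, NatPair.ap_one']
    simp only [up_10, up_11, Pi.neg_apply]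
    change _ = (0 : F)
    ring

end up

variable [Finite G] {S : Sylow 2 G} {P H D V₀ : Subgroup G}

/-- The split situation, with (3) of #19602 (`hO`). -/
structure Spl (S : Sylow 2 G) (P H D V₀ : Subgroup G)
    (M : NatK F (S : Subgroup G) P (zl (S : Subgroup G) P) D k) : Prop where
  hc : IsCharacteristicTwoType G
  data : DataLow (S : Subgroup G)
  pair : PairA (S : Subgroup G) P H
  pos : 0 < k
  V₀V : V₀ ≤ zl (S : Subgroup G) P
  nV : P ≤ normalizer (V₀ : Set G)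
  inf : V₀ ⊓ D = ⊥
  sup : zl (S : Subgroup G) P ≤ V₀ ⊔ D
  DV : D ≤ zl (S : Subgroup G) P
  hO : ∀ z ∈ zc (S : Subgroup G), z ∈ V₀ → z ≠ 1 → zl (S : Subgroup G) P ≤ o2 (centralizer ({z} : Set G))

namespace Spl

variable {M : NatK F (S : Subgroup G) P (zl (S : Subgroup G) P) D k} (h : Spl S P H D V₀ M)
include h

theorem SP : (S : Subgroup G) ≤ P := h.pair.par.le

theorem SH : (S : Subgroup G) ≤ H := h.pair.long.loc.le

theorem US : zl (S : Subgroup G) H ≤ (S : Subgroup G) := IsLong.zl_le_S h.hc h.pair.long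

theorem UP : zl (S : Subgroup G) H ≤ P := h.US.trans h.SP

theorem VS : zl (S : Subgroup G) P ≤ (S : Subgroup G) := IsParS.zl_le_S h.hc h.pair.par

theorem VH : zl (S : Subgroup G) P ≤ H := h.VS.trans h.SH

theorem ab : ∀ u ∈ zl (S : Subgroup G) H, ∀ v ∈ zl (S : Subgroup G) H, u * v = v * u := fun u hu v hv =>
  mem_centralizer_iff.1 ((zl_abel h.hc S h.pair.long.loc).1 hv) u hu

theorem sq : ∀ u ∈ zl (S : Subgroup G) H, u * u = 1 := by
  intro u hu
  rw [← pow_two]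
  exact (zl_abel h.hc S h.pair.long.loc).2 u hu

theorem abV : ∀ v ∈ zl (S : Subgroup G) P, ∀ w ∈ zl (S : Subgroup G) P, v * w = w * v := fun v hv w hw =>
  mem_centralizer_iff.1 ((zl_abel h.hc S h.pair.par.isLoc).1 hw) v hv

theorem sqV : ∀ v ∈ zl (S : Subgroup G) P, v * v = 1 := by
  intro v hv
  rw [← pow_two]
  exact (zl_abel h.hc S h.pair.par.isLoc).2 v hv

theorem nrm : ∀ x ∈ H, ∀ u ∈ zl (S : Subgroup G) H, x * u * x⁻¹ ∈ zl (S : Subgroup G) H :=
  fun x hx u hu => (mem_normalizer_iff.1 (le_normalizer_zl _ _ hx) u).1 hu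

theorem quad : AFour.Quad (S : Subgroup G) P (zl (S : Subgroup G) H) where
  SP := h.SP
  VS := h.VS
  US := h.US
  SU := h.SH.trans (le_normalizer_zl _ _)
  ab := h.ab
  sq := h.sq

/-! ### the complement `V₀` -/

theorem cj₀ {x v : G} (hx : x ∈ P) (hv : v ∈ V₀) : x * v * x⁻¹ ∈ V₀ := (mem_normalizer_iff.1 (h.nV hx) v).1 hv

theorem inj₀ {v w : G} (hv : v ∈ V₀) (hw : w ∈ V₀) (he : M.e v = M.e w) : v = w := by
  have hm := mul_mem hv (inv_mem hw)
  have h1 : v * w⁻¹ ∈ D := by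
    rw [← M.ker _ (h.V₀V hm), M.mul _ (h.V₀V hv) _ (inv_mem (h.V₀V hw)), e_inv M (h.V₀V hw), he, add_neg_cancel]
  have h2 : v * w⁻¹ ∈ V₀ ⊓ D := ⟨hm, h1⟩
  rw [h.inf, mem_bot] at h2
  exact mul_inv_eq_one.1 h2

theorem exists_mul {v : G} (hv : v ∈ zl (S : Subgroup G) P) : ∃ a ∈ V₀, ∃ d ∈ D, v = a * d := by
  have h2 : D ≤ normalizer (V₀ : Set G) := ((h.DV.trans h.VS).trans h.SP).trans h.nV
  have h3 : v ∈ ((V₀ : Set G) * (D : Set G)) := by
    rw [← coe_mul_of_right_le_normalizer_left _ _ h2]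
    exact h.sup hv
  obtain ⟨x, hx, ε, hε, rfl⟩ := Set.mem_mul.1 h3
  exact ⟨x, hx, ε, hε, rfl⟩

theorem surj₀ (x : Fin k → Fin 2 → F) : ∃ v ∈ V₀, M.e v = x := by
  obtain ⟨v, hv, he⟩ := M.surj x
  obtain ⟨a, ha, d, hd, rfl⟩ := h.exists_mul hv
  refine ⟨a, ha, ?_⟩
  rw [← he, M.mul _ (h.V₀V ha) _ (h.DV hd), (M.ker d (h.DV hd)).2 hd, add_zero]

/-- `D ≤ C(P)`. -/
theorem DP : D ≤ centralizer (P : Set G) := by
  -- the `D`-parts of the elements of `Z`
  have hPD : P ≤ normalizer (D : Set G) := by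
    intro g hg
    have ker' : ∀ g ∈ P, ∀ v ∈ zl (S : Subgroup G) P, M.e v = 0 → M.e (g * v * g⁻¹) = 0 := by
      intro g hg v hv h0
      obtain ⟨σ, hσ⟩ := M.perm g hg
      funext i
      obtain ⟨j, rfl⟩ := σ.surjective i
      exact (hσ v hv j).2 (congrFun h0 j)
    have key : ∀ g ∈ P, ∀ v ∈ D, g * v * g⁻¹ ∈ D := fun g hg v hv =>
      (M.ker _ (cj_mem hg (h.DV hv))).1 (ker' g hg v (h.DV hv) ((M.ker v (h.DV hv)).2 hv))
    rw [mem_normalizer_iff]
    intro v
    refine ⟨key g hg v, fun hv => ?_⟩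
    have h1 := key g⁻¹ (inv_mem hg) _ hv
    have e : g⁻¹ * (g * v * g⁻¹) * g⁻¹⁻¹ = v := by group
    rwa [e] at h1
  have hZ : ∀ a ∈ V₀, ∀ d ∈ D, a * d ∈ zc (S : Subgroup G) → d ∈ centralizer (P : Set G) := by
    intro a ha d hd hz
    have h1 : P ≤ centralizer ({d} : Set G) := by
      refine M.gen _ (fun s hs => ?_) fun g _ A hA => mem_centralizer_singleton_iff.2 (hA.2 d hd)
      have h2 : s * (a * d) * s⁻¹ = a * d := by
        rw [(mem_zc.1 hz).2.1 s hs, mul_inv_cancel_right]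
      have h3 : a⁻¹ * (s * a * s⁻¹) ∈ V₀ ⊓ D := by
        refine mem_inf.2 ⟨V₀.mul_mem (V₀.inv_mem ha) (h.cj₀ (h.SP hs) ha), ?_⟩
        have e : a⁻¹ * (s * a * s⁻¹) = a⁻¹ * (s * (a * d) * s⁻¹) * (s * d * s⁻¹)⁻¹ := by group
        rw [e, h2, inv_mul_cancel_left]
        exact D.mul_mem hd (D.inv_mem ((mem_normalizer_iff.1 (hPD (h.SP hs)) d).1 hd))
      rw [h.inf, mem_bot] at h3
      have h4 : s * a * s⁻¹ = a := (inv_mul_eq_one.1 h3).symm
      have h5 : s * d * s⁻¹ = d := by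
        have e : s * (a * d) * s⁻¹ = (s * a * s⁻¹) * (s * d * s⁻¹) := by group
        rw [e, h4] at h2
        exact mul_left_cancel h2
      exact mem_centralizer_singleton_iff.2 (mul_inv_eq_iff_eq_mul.1 h5)
    rw [mem_centralizer_iff]
    intro p hp
    exact mem_centralizer_singleton_iff.1 (h1 hp)
  -- `V ≤ V₀ C_D(P)`
  have hn1 : P ≤ normalizer ((D ⊓ centralizer (P : Set G) : Subgroup G) : Set G) := by
    intro g hg
    rw [mem_normalizer_iff]
    intro x
    constructor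
    · intro hx
      have e : g * x * g⁻¹ = x := by
        rw [mem_centralizer_iff.1 hx.2 g hg, mul_inv_cancel_right]
      rw [e]; exact hx
    · intro hx
      have h1 := mem_centralizer_iff.1 hx.2 g hg
      have e : x = g * x * g⁻¹ := by
        have h2 : g * x = g * x * g⁻¹ * g := by group
        rw [← h1] at h2
        exact (mul_left_cancel h2)
      rw [e]; exact hx
  have hV : zl (S : Subgroup G) P ≤ V₀ ⊔ (D ⊓ centralizer (P : Set G)) := by
    refine zl_le (fun z hz => ?_) ?_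
    · obtain ⟨a, ha, d, hd, rfl⟩ := h.exists_mul (zc_le_zl _ _ hz)
      exact mul_mem ((le_sup_left : V₀ ≤ _) ha)
        ((le_sup_right : D ⊓ centralizer (P : Set G) ≤ _) ⟨hd, hZ a ha d hd hz⟩)
    · exact RTools.le_normalizer_sup h.nV hn1
  intro d hd
  have h2 : (D ⊓ centralizer (P : Set G) : Subgroup G) ≤ normalizer (V₀ : Set G) :=
    (inf_le_left.trans ((h.DV.trans h.VS).trans h.SP)).trans h.nV
  have h3 : d ∈ ((V₀ : Set G) * ((D ⊓ centralizer (P : Set G) : Subgroup G) : Set G)) := by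
    rw [← coe_mul_of_right_le_normalizer_left _ _ h2]
    exact hV (h.DV hd)
  obtain ⟨x, hx, ε, hε, he⟩ := Set.mem_mul.1 h3
  have h4 : x ∈ V₀ ⊓ D := by
    refine ⟨hx, ?_⟩
    have e : x = d * ε⁻¹ := by rw [← he]; group
    rw [e]
    exact D.mul_mem hd (D.inv_mem hε.1)
  rw [h.inf, mem_bot] at h4
  rw [← he, h4, one_mul]
  exact hε.2

theorem UD : zl (S : Subgroup G) H ≤ centralizer (D : Set G) := by
  rw [le_centralizer_iff]
  exact h.DP.trans (centralizer_le h.UP)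

omit h in
/-- The `i`-th factor of `V₀`. -/
def fac (V₀ : Subgroup G) (M : NatK F (S : Subgroup G) P (zl (S : Subgroup G) P) D k) (i : Fin k) : Subgroup G where
  carrier := {v | (v ∈ V₀ ∧ v ∈ zl (S : Subgroup G) P) ∧ ∀ j, j ≠ i → M.e v j = 0}
  one_mem' := ⟨⟨one_mem _, one_mem _⟩, fun i _ => by rw [e_one M]; rfl⟩
  mul_mem' := by
    rintro a b ⟨ha, ha'⟩ ⟨hb, hb'⟩
    exact ⟨⟨mul_mem ha.1 hb.1, mul_mem ha.2 hb.2⟩, fun i hi => by
      rw [M.mul a ha.2 b hb.2, Pi.add_apply, ha' i hi, hb' i hi, add_zero]⟩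
  inv_mem' := by
    rintro a ⟨ha, ha'⟩
    exact ⟨⟨inv_mem ha.1, inv_mem ha.2⟩, fun i hi => by rw [e_inv M ha.2, Pi.neg_apply, ha' i hi, neg_zero]⟩

omit h in
/-- The line of the `i`-th factor of `V₀`. -/
def lin (V₀ : Subgroup G) (M : NatK F (S : Subgroup G) P (zl (S : Subgroup G) P) D k) (i : Fin k) : Subgroup G where
  carrier := {v | v ∈ fac V₀ M i ∧ M.e v i 1 = 0}
  one_mem' := ⟨one_mem _, by rw [e_one M]; rfl⟩
  mul_mem' := by
    rintro a b ⟨ha, ha'⟩ ⟨hb, hb'⟩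
    exact ⟨mul_mem ha hb, by
      rw [M.mul a ha.1.2 b hb.1.2, Pi.add_apply, Pi.add_apply, ha', hb', add_zero]⟩
  inv_mem' := by
    rintro a ⟨ha, ha'⟩
    exact ⟨inv_mem ha, by rw [e_inv M ha.1.2, Pi.neg_apply, Pi.neg_apply, ha', neg_zero]⟩

omit h [Finite G] in
theorem mem_fac {i : Fin k} {v : G} :
    v ∈ fac V₀ M i ↔ (v ∈ V₀ ∧ v ∈ zl (S : Subgroup G) P) ∧ ∀ j, j ≠ i → M.e v j = 0 := Iff.rfl

omit h [Finite G] in
theorem mem_lin {i : Fin k} {v : G} : v ∈ lin V₀ M i ↔ v ∈ fac V₀ M i ∧ M.e v i 1 = 0 := Iff.rfl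

theorem exists_fac (i : Fin k) (x : Fin 2 → F) : ∃ v ∈ fac V₀ M i, M.e v i = x := by
  classical
  obtain ⟨v, hv, he⟩ := h.surj₀ (Pi.single i x)
  exact ⟨v, ⟨⟨hv, h.V₀V hv⟩, fun j hj => by rw [he, Pi.single_eq_of_ne hj]⟩, by rw [he, Pi.single_eq_same]⟩

omit h [Finite G] in
theorem vec_ex (h : ∀ x : Fin k → Fin 2 → F, ∃ v ∈ V₀, M.e v = x) (x : Fin k → F) :
    ∃ v ∈ V₀, M.e v = fun i => ![x i, 0] := h _

/-- The element of `V₀` with coordinates `![x i, 0]`. -/
noncomputable def vec (x : Fin k → F) : G := (h.surj₀ fun i => ![x i, 0]).choose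

theorem vec_mem (x : Fin k → F) : h.vec x ∈ V₀ := (h.surj₀ fun i => ![x i, 0]).choose_spec.1

theorem e_vec (x : Fin k → F) (i : Fin k) : M.e (h.vec x) i = ![x i, 0] :=
  congrFun (h.surj₀ fun i => ![x i, 0]).choose_spec.2 i

theorem vec_add (x y : Fin k → F) : h.vec (x + y) = h.vec x * h.vec y := by
  refine h.inj₀ (h.vec_mem _) (mul_mem (h.vec_mem x) (h.vec_mem y)) (funext fun i => ?_)
  rw [M.mul _ (h.V₀V (h.vec_mem x)) _ (h.V₀V (h.vec_mem y)), Pi.add_apply, e_vec, e_vec, e_vec]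
  apply NatPair.ext2 <;> simp

theorem vec_inj : Function.Injective h.vec := by
  intro x y hxy
  funext i
  have h1 := h.e_vec x i
  rw [hxy, e_vec] at h1
  exact (congrFun h1 0).symm

theorem vec_single_mem (i : Fin k) (c : F) : h.vec (Pi.single i c) ∈ lin V₀ M i := by
  refine ⟨⟨⟨h.vec_mem _, h.V₀V (h.vec_mem _)⟩, fun j hj => ?_⟩, ?_⟩
  · rw [e_vec, Pi.single_eq_of_ne hj]
    apply NatPair.ext2 <;> simp
  · rw [e_vec]; rfl

theorem mem_lin_iff (i : Fin k) (g : G) : g ∈ lin V₀ M i ↔ ∃ c : F, h.vec (Pi.single i c) = g := by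
  constructor
  · intro hg
    refine ⟨M.e g i 0, h.inj₀ (h.vec_mem _) hg.1.1.1 (funext fun j => ?_)⟩
    by_cases hj : j = i
    · subst hj
      rw [e_vec, Pi.single_eq_same]
      apply NatPair.ext2
      · rfl
      · exact hg.2.symm
    · rw [e_vec, Pi.single_eq_of_ne hj, hg.1.2 j hj]
      apply NatPair.ext2 <;> simp
  · rintro ⟨c, rfl⟩
    exact h.vec_single_mem i c

theorem eq_vec {v : G} (hv : v ∈ V₀) (h1 : ∀ i, M.e v i 1 = 0) : h.vec (fun i => M.e v i 0) = v := by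
  refine h.inj₀ (h.vec_mem _) hv (funext fun i => ?_)
  rw [e_vec]
  apply NatPair.ext2
  · rfl
  · exact (h1 i).symm

theorem cj_fac {s : G} (hs : s ∈ P) (i : Fin k) : cj s (fac V₀ M i) = fac V₀ M (sg M hs i) := by
  have key : ∀ {t : G} (ht : t ∈ P) (i : Fin k), ∀ v ∈ fac V₀ M i, t * v * t⁻¹ ∈ fac V₀ M (sg M ht i) := by
    intro t ht i v hv
    refine ⟨⟨h.cj₀ ht hv.1.1, cj_mem ht hv.1.2⟩, fun j hj => ?_⟩
    obtain ⟨l, rfl⟩ := (sg M ht).surjective j
    exact (sg_spec M ht hv.1.2 l).2 (hv.2 l fun h0 => hj (by rw [h0]))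
  ext v
  rw [mem_cj]
  constructor
  · intro hv
    have h1 := key hs i _ hv
    have e : s * (s⁻¹ * v * s) * s⁻¹ = v := by group
    rwa [e] at h1
  · intro hv
    have hv' : s⁻¹ * v * s ∈ V₀ := by
      have := h.cj₀ (inv_mem hs) hv.1.1
      rwa [inv_inv] at this
    refine ⟨⟨hv', h.V₀V hv'⟩, fun j hj => ?_⟩
    have h1 := (sg_spec M hs (h.V₀V hv') j)
    have e : s * (s⁻¹ * v * s) * s⁻¹ = v := by group
    rw [e] at h1
    exact h1.1 (hv.2 _ fun h0 => hj ((sg M hs).injective h0))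

/-- `S` is transitive on the factors -/
theorem exists_trans (i j : Fin k) : ∃ t ∈ (S : Subgroup G), ∃ ht : t ∈ P, sg M ht i = j := by
  obtain ⟨t, ht, h1⟩ := M.trans i j
  refine ⟨t, ht, h.SP ht, ?_⟩
  by_contra hne
  -- a vector of the factor `i`
  obtain ⟨v, hv, he⟩ := h.exists_fac i ![1, 0]
  obtain ⟨l, hl⟩ := (sg M (h.SP ht)).surjective j
  have hli : l ≠ i := by
    rintro rfl
    exact hne hl
  have h2 := (sg_spec M (h.SP ht) hv.1.2 l).2 (hv.2 l hli)
  rw [hl] at h2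
  have h3 := (h1 v hv.1.2).1 h2
  rw [he] at h3
  have := congrFun h3 0
  simp at this

variable [CharP F 2]

theorem exists_b {u : G} (hu : u ∈ zl (S : Subgroup G) H) : ∃ b : Fin k → F, Up M u b :=
  RStr.exists_up h.quad M hu

omit [CharP F 2] in
theorem cm₀ {u v : G} (hu : u ∈ P) (hv : v ∈ V₀) : u * v * u⁻¹ * v⁻¹ ∈ V₀ := mul_mem (h.cj₀ hu hv) (inv_mem hv)

omit [CharP F 2] in
theorem b_zero_iff {u : G} (hu : u ∈ P) {b : Fin k → F} (hb : Up M u b) (i : Fin k) :
    b i = 0 ↔ u ∈ centralizer (fac V₀ M i : Set G) := by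
  constructor
  · intro h0
    rw [mem_centralizer_iff]
    intro v hv
    have h1 : u * v * u⁻¹ * v⁻¹ = 1 := by
      refine h.inj₀ (h.cm₀ hu hv.1.1) (one_mem _) (funext fun j => ?_)
      rw [hb.cm hu hv.1.2 j, e_one M]
      by_cases hj : j = i
      · rw [hj, h0, zero_mul]
        apply NatPair.ext2 <;> rfl
      · rw [hv.2 j hj]
        apply NatPair.ext2 <;> simp
    calc v * u = 1 * (v * u) := by rw [one_mul]
      _ = u * v * u⁻¹ * v⁻¹ * (v * u) := by rw [h1]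
      _ = u * v := by group
  · intro hc
    obtain ⟨v, hv, he⟩ := h.exists_fac i ![0, 1]
    have h1 := mem_centralizer_iff.1 hc v hv
    have h2 : u * v * u⁻¹ * v⁻¹ = 1 := by rw [← h1]; group
    have h3 := hb.cm hu hv.1.2 i
    rw [h2, e_one M, he] at h3
    have := congrFun h3 0
    simpa using this.symm

omit [CharP F 2] in
/-- trivial action and `[u, D] = 1` -/
theorem cent_of {u : G} (hu : u ∈ zl (S : Subgroup G) H) {b : Fin k → F} (hb : Up M u b) (h0 : b = 0) :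
    u ∈ centralizer (zl (S : Subgroup G) P : Set G) := by
  have huP := h.UP hu
  rw [mem_centralizer_iff]
  intro v hv
  obtain ⟨a, ha, d, hd, rfl⟩ := h.exists_mul hv
  have h1 : u * a * u⁻¹ * a⁻¹ = 1 := by
    refine h.inj₀ (h.cm₀ huP ha) (one_mem _) (funext fun j => ?_)
    rw [hb.cm huP (h.V₀V ha) j, e_one M, h0, Pi.zero_apply, zero_mul]
    apply NatPair.ext2 <;> rfl
  have h2 : a * u = u * a := by
    calc a * u = 1 * (a * u) := by rw [one_mul]
      _ = u * a * u⁻¹ * a⁻¹ * (a * u) := by rw [h1]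
      _ = u * a := by group
  have h3 := mem_centralizer_iff.1 (h.UD hu) d hd
  calc a * d * u = a * (d * u) := by group
    _ = (a * u) * d := by rw [h3]; group
    _ = u * (a * d) := by rw [h2]; group

/-- `U_H` does not centralise a factor. -/
theorem not_cent (i : Fin k) : ¬ zl (S : Subgroup G) H ≤ centralizer (fac V₀ M i : Set G) := by
  intro hle
  refine h.pair.ne' fun u hu => ?_
  obtain ⟨b, hb⟩ := h.exists_b hu
  refine h.cent_of hu hb (funext fun j => ?_)
  obtain ⟨t, htS, ht, htj⟩ := h.exists_trans i j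
  rw [Pi.zero_apply, h.b_zero_iff (h.UP hu) hb j, ← htj, ← h.cj_fac ht i, ← cj_centralizer, mem_cj]
  refine hle ?_
  have := h.nrm t⁻¹ (inv_mem (h.SH htS)) u hu
  rwa [inv_inv] at this

theorem exists_u (i : Fin k) : ∃ u ∈ zl (S : Subgroup G) H, ∃ b, Up M u b ∧ b i ≠ 0 := by
  obtain ⟨u, hu, hn⟩ := SetLike.not_le_iff_exists.1 (h.not_cent i)
  obtain ⟨b, hb⟩ := h.exists_b hu
  exact ⟨u, hu, b, hb, fun h0 => hn ((h.b_zero_iff (h.UP hu) hb i).1 h0)⟩

/-- the commutator with an element of the factor `i` -/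
theorem cm_eq {u v : G} (hu : u ∈ zl (S : Subgroup G) H) {b : Fin k → F} (hb : Up M u b) {i : Fin k}
    (hv : v ∈ fac V₀ M i) : u * v * u⁻¹ * v⁻¹ = h.vec (Pi.single i (b i * M.e v i 1)) := by
  refine h.inj₀ (h.cm₀ (h.UP hu) hv.1.1) (h.vec_mem _) (funext fun j => ?_)
  rw [hb.cm (h.UP hu) hv.1.2 j, e_vec]
  by_cases hj : j = i
  · subst hj
    rw [Pi.single_eq_same]
  · rw [Pi.single_eq_of_ne hj, hv.2 j hj]
    apply NatPair.ext2 <;> simp

theorem vec_single (i : Fin k) (c : F) : h.vec (Pi.single i c) ∈ zl (S : Subgroup G) H := by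
  obtain ⟨u, hu, b, hb, hb0⟩ := h.exists_u i
  obtain ⟨v, hv, he⟩ := h.exists_fac i ![0, c / b i]
  have h1 := h.cm_eq hu hb hv
  rw [he] at h1
  have h2 : b i * (![0, c / b i] : Fin 2 → F) 1 = c := by
    change b i * (c / b i) = c
    field_simp
  rw [h2] at h1
  rw [← h1]
  have e : u * v * u⁻¹ * v⁻¹ = u * (v * u⁻¹ * v⁻¹) := by group
  rw [e]
  exact mul_mem hu (h.nrm v (h.VH hv.1.2) _ (inv_mem hu))

theorem vec_mem_U (x : Fin k → F) : h.vec x ∈ zl (S : Subgroup G) H := by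
  have key : ∀ s : Finset (Fin k), h.vec (∑ i ∈ s, Pi.single i (x i)) ∈ zl (S : Subgroup G) H := by
    intro s
    induction s using Finset.induction_on with
    | empty =>
      rw [Finset.sum_empty]
      have h1 : h.vec 0 = 1 := by
        refine h.inj₀ (h.vec_mem _) (one_mem _) (funext fun i => ?_)
        rw [e_vec, e_one M]
        apply NatPair.ext2 <;> rfl
      rw [h1]
      exact one_mem _
    | insert a s ha ih =>
      rw [Finset.sum_insert ha, vec_add]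
      exact mul_mem (h.vec_single a _) ih
  have h1 := key Finset.univ
  rwa [Finset.univ_sum_single] at h1

/-- `|U : C_U(N_i)| ≤ q` -/
theorem idx [Finite F] (i : Fin k) : Nat.card (zl (S : Subgroup G) H) ≤
    Nat.card F * Nat.card (zl (S : Subgroup G) H ⊓ centralizer (fac V₀ M i : Set G) : Subgroup G) := by
  set U := zl (S : Subgroup G) H with hU
  set K := U ⊓ centralizer (fac V₀ M i : Set G) with hK
  have hKU : K ≤ U := inf_le_left
  choose! b hb using fun (u : G) (hu : u ∈ U) => h.exists_b hu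
  let f : (U ⧸ K.subgroupOf U) → F := fun q => b (q.out : U) i
  have hinj : Function.Injective f := by
    intro q q' hqq
    have hq := hb _ q.out.2
    have hq' := hb _ q'.out.2
    have h1 : b (q.out : U) i = b (q'.out : U) i := hqq
    have h2 : ((q.out : U) : G)⁻¹ * (q'.out : U) ∈ K := by
      refine ⟨U.mul_mem (U.inv_mem q.out.2) q'.out.2, ?_⟩
      have h3 := Up.mul (h.UP q'.out.2) (Up.inv (h.UP q.out.2) hq) hq'
      refine (h.b_zero_iff (mul_mem (inv_mem (h.UP q.out.2)) (h.UP q'.out.2)) h3 i).1 ?_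
      rw [Pi.add_apply, Pi.neg_apply, h1, neg_add_cancel]
    have h3 : (QuotientGroup.mk (q.out : U) : U ⧸ K.subgroupOf U) = QuotientGroup.mk (q'.out : U) := by
      rw [QuotientGroup.eq, mem_subgroupOf]
      exact h2
    rwa [QuotientGroup.out_eq', QuotientGroup.out_eq'] at h3
  have h1 := Nat.card_le_card_of_injective f hinj
  have hcg : Nat.card (K.subgroupOf U) = Nat.card K := Nat.card_congr (subgroupOfEquivOfLe hKU).toEquiv
  rw [card_eq_card_quotient_mul_card_subgroup (K.subgroupOf U), hcg]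
  exact Nat.mul_le_mul_right _ h1

/-! ### full vectors -/

omit [CharP F 2] in
/-- `Z ∩ V₀ ≠ 1` -/
theorem exists_z : ∃ z ∈ zc (S : Subgroup G), z ∈ V₀ ∧ z ≠ 1 := by
  have : Fact (Nat.Prime 2) := ⟨Nat.prime_two⟩
  have hp : IsPGroup 2 V₀ := S.isPGroup'.to_le (h.V₀V.trans h.VS)
  have hne : V₀ ≠ ⊥ := by
    intro h0
    obtain ⟨v, hv, he⟩ := h.exists_fac ⟨0, h.pos⟩ ![1, 0]
    have h1 := hv.1.1
    rw [h0, mem_bot] at h1
    rw [h1, e_one M] at he
    have := congrFun he 0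
    simp at this
  have h2 := Cfsg.Agent.PLocal.OffenderStep.inf_centralizer_ne_bot V₀ (S : Subgroup G) hp S.isPGroup'
    (h.SP.trans h.nV) hne
  obtain ⟨x, hx, hx1⟩ : ∃ x ∈ V₀ ⊓ centralizer ((S : Subgroup G) : Set G), x ≠ 1 := by
    by_contra hcon
    push Not at hcon
    exact h2 ((eq_bot_iff_forall _).2 hcon)
  refine ⟨x, mem_zc.2 ⟨h.VS (h.V₀V hx.1), fun b hb => mem_centralizer_iff.1 hx.2 b hb, ?_⟩, hx.1, hx1⟩
  rw [pow_two]
  exact h.sqV x (h.V₀V hx.1)

omit [CharP F 2] in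
/-- all coordinates of `1 ≠ z ∈ Z ∩ V₀` are nonzero -/
theorem ez_ne {z : G} (hz : z ∈ zc (S : Subgroup G)) (hz0 : z ∈ V₀) (hz1 : z ≠ 1) (i : Fin k) : M.e z i ≠ 0 := by
  intro h0
  apply hz1
  refine h.inj₀ hz0 (one_mem _) (funext fun j => ?_)
  obtain ⟨t, ht, h1⟩ := M.trans j i
  have h2 : t * z * t⁻¹ = z := by
    rw [(mem_zc.1 hz).2.1 t ht, mul_inv_cancel_right]
  have h3 := h1 z (h.V₀V hz0)
  rw [h2] at h3
  rw [h3.1 h0, e_one M]
  rfl

omit [CharP F 2] in
/-- a full vector of `V₀` is `P`-conjugate to an element of `Z ∩ V₀` -/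
theorem exists_full {v : G} (hv : v ∈ V₀) (hf : ∀ i, M.e v i ≠ 0) :
    ∃ b ∈ P, ∃ z ∈ zc (S : Subgroup G), z ∈ V₀ ∧ z ≠ 1 ∧ b * z * b⁻¹ = v := by
  obtain ⟨z, hz, hz0, hz1⟩ := h.exists_z
  choose A hA using fun i => exists_ap (h.ez_ne hz hz0 hz1 i) (hf i)
  obtain ⟨b, hb, hbA⟩ := M.lift A
  refine ⟨b, hb, z, hz, hz0, hz1, ?_⟩
  refine h.inj₀ (h.cj₀ hb hz0) hv (funext fun i => ?_)
  rw [hbA.1 z (zc_le_zl _ _ hz) i, hA i]

omit [CharP F 2] in
/-- **An element fixing a full vector of `V₀`**: `V` and `V ^ t` commute. -/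
theorem fix {v t : G} (hv : v ∈ V₀) (hf : ∀ i, M.e v i ≠ 0) (ht : t * v = v * t) :
    ∀ w ∈ zl (S : Subgroup G) P, ∀ w' ∈ zl (S : Subgroup G) P, t * w * t⁻¹ * w' = w' * (t * w * t⁻¹) := by
  obtain ⟨b, hb, z, hz, hz0, hz1, hbz⟩ := h.exists_full hv hf
  -- `n = b⁻¹ t b ∈ C_G(z)`
  have hn : b⁻¹ * t * b ∈ centralizer ({z} : Set G) := by
    refine mem_centralizer_singleton_iff.2 ?_
    have e : z = b⁻¹ * v * b := by rw [← hbz]; group
    rw [e]
    calc b⁻¹ * t * b * (b⁻¹ * v * b) = b⁻¹ * (t * v) * b := by group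
      _ = b⁻¹ * (v * t) * b := by rw [ht]
      _ = b⁻¹ * v * b * (b⁻¹ * t * b) := by group
  set n := b⁻¹ * t * b with hnn
  have hO := h.hO z hz hz0 hz1
  have hSL : (S : Subgroup G) ≤ centralizer ({z} : Set G) := fun s hs =>
    mem_centralizer_singleton_iff.2 ((mem_zc.1 hz).2.1 s hs)
  have hL : IsLoc (S : Subgroup G) (centralizer ({z} : Set G)) :=
    isLoc_centralizer S (mem_zc.1 hz).2.2 hz1 hSL
  have hOS : o2 (centralizer ({z} : Set G)) ≤ (S : Subgroup G) := hL.o2_le S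
  have hOn : MulAut.conj n • o2 (centralizer ({z} : Set G)) = o2 (centralizer ({z} : Set G)) :=
    Pair.conj_eq_of_mem (Cfsg.Agent.MinSimple.VModule.le_normalizer_o2 _ hn)
  have D' := GeoLow.geo h.hc h.data
  have key : MulAut.conj n • zl (S : Subgroup G) P ≤
      centralizer ((MulAut.conj (1 : G) • zl (S : Subgroup G) P : Subgroup G) : Set G) := by
    refine D'.noff' h.pair.par h.pair.par ?_ ?_
    · rw [map_one, one_smul]
      have h1 : MulAut.conj n • zl (S : Subgroup G) P ≤ MulAut.conj n • o2 (centralizer ({z} : Set G)) :=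
        NoFF.Basic.conj_le_iff.2 hO
      rw [hOn] at h1
      exact (h1.trans hOS).trans h.SP
    · rw [map_one, one_smul]
      refine hO.trans ?_
      rw [← hOn]
      exact NoFF.Basic.conj_le_iff.2 (hOS.trans h.SP)
  rw [map_one, one_smul] at key
  intro w hw w' hw'
  have hb1 : b⁻¹ * w * b ∈ zl (S : Subgroup G) P := cj_mem' hb hw
  have hb2 : b⁻¹ * w' * b ∈ zl (S : Subgroup G) P := cj_mem' hb hw'
  have h3 : n * (b⁻¹ * w * b) * n⁻¹ ∈ MulAut.conj n • zl (S : Subgroup G) P := by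
    rw [NoFF.Basic.mem_conj]
    have e : n⁻¹ * (n * (b⁻¹ * w * b) * n⁻¹) * n = b⁻¹ * w * b := by group
    rwa [e]
  have h4 := mem_centralizer_iff.1 (key h3) _ hb2
  have e1 : t * w * t⁻¹ = b * (n * (b⁻¹ * w * b) * n⁻¹) * b⁻¹ := by rw [hnn]; group
  rw [e1]
  calc b * (n * (b⁻¹ * w * b) * n⁻¹) * b⁻¹ * w' =
      b * (n * (b⁻¹ * w * b) * n⁻¹ * (b⁻¹ * w' * b)) * b⁻¹ := by group
    _ = b * (b⁻¹ * w' * b * (n * (b⁻¹ * w * b) * n⁻¹)) * b⁻¹ := by rw [h4]
    _ = w' * (b * (n * (b⁻¹ * w * b) * n⁻¹) * b⁻¹) := by group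

/-- the axes -/
abbrev Kx (V₀ : Subgroup G) (M : NatK F (S : Subgroup G) P (zl (S : Subgroup G) P) D k) (H : Subgroup G)
    (i : Fin k) : Subgroup G := zl (S : Subgroup G) H ⊓ centralizer (fac V₀ M i : Set G)

/-- **Some axis does not contain `R`.** -/
theorem ex : ∃ x ∈ H, ∃ j w, h.vec w ∉ cj x (Kx V₀ M H j) := by
  by_contra hcon
  push Not at hcon
  -- `J = ⟨R^H⟩`
  set J : Subgroup G := closure {y | ∃ x ∈ H, ∃ w, y = x * h.vec w * x⁻¹} with hJ
  have hJK : ∀ j, J ≤ Kx V₀ M H j := by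
    intro j
    rw [hJ, closure_le]
    rintro y ⟨x, hx, w, rfl⟩
    have h1 := hcon x⁻¹ (inv_mem hx) j w
    rw [mem_cj, inv_inv] at h1
    exact h1
  have hJU : J ≤ zl (S : Subgroup G) H := (hJK ⟨0, h.pos⟩).trans inf_le_left
  have hHJ : H ≤ normalizer (J : Set G) := by
    have key : ∀ x ∈ H, ∀ y ∈ J, x * y * x⁻¹ ∈ J := by
      intro x hx y hy
      have h1 : J ≤ cj x⁻¹ J := by
        conv_lhs => rw [hJ]
        rw [closure_le]
        rintro y ⟨x', hx', w, rfl⟩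
        rw [SetLike.mem_coe, mem_cj, inv_inv]
        refine subset_closure ⟨x * x', mul_mem hx hx', w, by group⟩
      have h2 := h1 hy
      rwa [mem_cj, inv_inv] at h2
    intro x hx
    rw [mem_normalizer_iff]
    intro y
    refine ⟨key x hx y, fun hy => ?_⟩
    have h1 := key x⁻¹ (inv_mem hx) _ hy
    have e : x⁻¹ * (x * y * x⁻¹) * x⁻¹⁻¹ = y := by group
    rwa [e] at h1
  -- `J` centralises `V`
  have hJV : ∀ y ∈ J, y ∈ centralizer (zl (S : Subgroup G) P : Set G) := by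
    intro y hy
    obtain ⟨b, hb⟩ := h.exists_b (hJU hy)
    exact h.cent_of (hJU hy) hb (funext fun j => (h.b_zero_iff (h.UP (hJU hy)) hb j).2 (hJK j hy).2)
  -- `V` centralises `U`
  refine h.pair.ne fun v hv => ?_
  obtain ⟨a, ha, d, hd, rfl⟩ := h.exists_mul hv
  refine mul_mem ?_ ?_
  · refine RTransv.le_centralizer S h.SH hJU hHJ h.sq ⟨le_normalizer_zl _ _ (h.VH (h.V₀V ha)), fun u hu => ?_⟩ ?_
    · obtain ⟨b, hb⟩ := h.exists_b hu
      have h1 : u * a * u⁻¹ * a⁻¹ = h.vec fun i => b i * M.e a i 1 := by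
        refine h.inj₀ (h.cm₀ (h.UP hu) ha) (h.vec_mem _) (funext fun j => ?_)
        rw [hb.cm (h.UP hu) (h.V₀V ha) j, e_vec]
      have h2 : h.vec (fun i => b i * M.e a i 1) ∈ J := by
        refine subset_closure ⟨1, one_mem _, fun i => b i * M.e a i 1, ?_⟩
        rw [one_mul, inv_one, mul_one]
      have e : a * u * a⁻¹ * u⁻¹ = (u * a * u⁻¹ * a⁻¹)⁻¹ := by group
      rw [e, h1]
      exact inv_mem h2
    · rw [mem_centralizer_iff]
      intro y hy
      exact (mem_centralizer_iff.1 (hJV y hy) a (h.V₀V ha)).symm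
  · rw [mem_centralizer_iff]
    intro u hu
    exact (mem_centralizer_iff.1 (h.UD hu) d hd).symm

/-- **The family.** -/
theorem axR [Finite F] : AxR H (zl (S : Subgroup G) H) (Kx V₀ M H) (lin V₀ M) (fac V₀ M) h.vec where
  MU := h.nrm
  ab := h.ab
  sq := h.sq
  KU := fun i => inf_le_left
  add := h.vec_add
  inj := h.vec_inj
  LK := fun x i => ⟨h.vec_mem_U x, mem_centralizer_iff.2 fun v hv => h.abV v hv.1.2 _ (h.V₀V (h.vec_mem x))⟩
  memR := h.mem_lin_iff
  NM := fun i v hv => h.VH hv.1.2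
  cent := fun i a ha t ht => (mem_centralizer_iff.1 ha.2 t ht).symm
  comm := by
    intro i u hu t ht
    obtain ⟨b, hb⟩ := h.exists_b hu
    rw [h.cm_eq hu hb ht]
    exact h.vec_single_mem i _
  full := by
    intro i u hu huK y hy
    obtain ⟨b, hb⟩ := h.exists_b hu
    have hbi : b i ≠ 0 := fun h0 => huK ⟨hu, (h.b_zero_iff (h.UP hu) hb i).1 h0⟩
    obtain ⟨c, rfl⟩ := (h.mem_lin_iff i y).1 hy
    obtain ⟨t, ht, hte⟩ := h.exists_fac i ![0, c / b i]
    refine ⟨t, ht, ?_⟩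
    rw [h.cm_eq hu hb ht, hte]
    have h2 : b i * (![0, c / b i] : Fin 2 → F) 1 = c := by
      change b i * (c / b i) = c
      field_simp
    rw [h2]
  idx := h.idx
  trans := by
    intro i j
    obtain ⟨t, htS, ht, htj⟩ := h.exists_trans i j
    refine ⟨t, h.SH htS, ?_, fun w => ?_, ?_⟩
    · rw [Kx, cj_inf, cj_centralizer, h.cj_fac ht i, htj, cj_eq_of_mem_normalizer (le_normalizer_zl _ _ (h.SH htS))]
    · refine ⟨fun l => M.e (t * h.vec w * t⁻¹) l 0, (h.eq_vec (h.cj₀ ht (h.vec_mem w)) fun l => ?_).symm⟩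
      obtain ⟨m, rfl⟩ := (sg M ht).surjective l
      exact (e_conj_line M h.SP htS (h.V₀V (h.vec_mem w)) m).2 (by rw [h.e_vec]; rfl)
    · have h1 : t * h.vec (Pi.single i 1) * t⁻¹ ∈ lin V₀ M j := by
        have h2 : t * h.vec (Pi.single i 1) * t⁻¹ ∈ fac V₀ M j := by
          rw [← htj, ← h.cj_fac ht i, mem_cj]
          have e : t⁻¹ * (t * h.vec (Pi.single i 1) * t⁻¹) * t = h.vec (Pi.single i 1) := by group
          rw [e]
          exact (h.vec_single_mem i 1).1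
        refine ⟨h2, ?_⟩
        rw [← htj]
        exact (e_conj_line M h.SP htS (h.V₀V (h.vec_mem _)) i).2 (by rw [h.e_vec]; rfl)
      obtain ⟨d, hd⟩ := (h.mem_lin_iff j _).1 h1
      exact ⟨d, hd.symm⟩
  ex := h.ex
  fix := by
    intro x hx t ht htx w j
    refine ⟨h.nrm t ht _ (h.vec_mem_U w), mem_centralizer_iff.2 fun v hv => ?_⟩
    have hf : ∀ i, M.e (h.vec x) i ≠ 0 := by
      intro i h0
      rw [e_vec] at h0
      exact hx i (congrFun h0 0)
    exact (h.fix (h.vec_mem x) hf htx _ (h.V₀V (h.vec_mem w)) v hv.1.2).symm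

/-- **THEOREM EXACT with radical**: `U_H` induces all upper unitriangular elements of `SL₂(F)^k` on `V / D`. -/
theorem ind [Finite F] (hF : 2 < Nat.card F) (b₀ : Fin k → F) : ∃ u ∈ zl (S : Subgroup G) H, Up M u b₀ := by
  set U := zl (S : Subgroup G) H with hU
  have hax := h.axR
  -- an element moving only the factor `i`
  have key : ∀ (i : Fin k) (c : F), ∃ u ∈ U, Up M u (Pi.single i c) := by
    intro i c
    obtain ⟨hex, hcard⟩ := hax.exact hF i
    choose! b hb using fun (u : G) (hu : u ∈ U) => h.exists_b hu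
    set K := U ⊓ centralizer (fac V₀ M i : Set G) with hK
    have hKU : K ≤ U := inf_le_left
    let f : (U ⧸ K.subgroupOf U) → F := fun q => b (q.out : U) i
    have hinj : Function.Injective f := by
      intro q q' hqq
      have hq := hb _ q.out.2
      have hq' := hb _ q'.out.2
      have h1 : b (q.out : U) i = b (q'.out : U) i := hqq
      have h2 : ((q.out : U) : G)⁻¹ * (q'.out : U) ∈ K := by
        refine ⟨U.mul_mem (U.inv_mem q.out.2) q'.out.2, ?_⟩
        have h3 := Up.mul (h.UP q'.out.2) (Up.inv (h.UP q.out.2) hq) hq'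
        refine (h.b_zero_iff (mul_mem (inv_mem (h.UP q.out.2)) (h.UP q'.out.2)) h3 i).1 ?_
        rw [Pi.add_apply, Pi.neg_apply, h1, neg_add_cancel]
      have h3 : (QuotientGroup.mk (q.out : U) : U ⧸ K.subgroupOf U) = QuotientGroup.mk (q'.out : U) := by
        rw [QuotientGroup.eq, mem_subgroupOf]
        exact h2
      rwa [QuotientGroup.out_eq', QuotientGroup.out_eq'] at h3
    have hcg : Nat.card (K.subgroupOf U) = Nat.card K := Nat.card_congr (subgroupOfEquivOfLe hKU).toEquiv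
    have hq : Nat.card F ≤ Nat.card (U ⧸ K.subgroupOf U) := by
      rw [card_eq_card_quotient_mul_card_subgroup (K.subgroupOf U), hcg] at hcard
      exact (Nat.eq_of_mul_eq_mul_right Nat.card_pos hcard).ge
    have hbij := hinj.bijective_of_nat_card_le hq
    obtain ⟨q, hq⟩ := hbij.2 c
    obtain ⟨y, hy, hyl, hyi⟩ := hex _ q.out.2
    refine ⟨y, hy, ?_⟩
    have h1 : b y = Pi.single i c := by
      funext l
      by_cases hl : l = i
      · subst hl
        rw [Pi.single_eq_same]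
        have h3 := Up.mul (h.UP q.out.2) (Up.inv (h.UP hy) (hb y hy)) (hb _ q.out.2)
        have h4 := (h.b_zero_iff (mul_mem (inv_mem (h.UP hy)) (h.UP q.out.2)) h3 l).2 hyi.2
        rw [Pi.add_apply, Pi.neg_apply, neg_add_eq_zero] at h4
        rw [h4]
        exact hq
      · rw [Pi.single_eq_of_ne hl]
        exact (h.b_zero_iff (h.UP hy) (hb y hy) l).2 (hyl l hl).2
    rw [← h1]
    exact hb y hy
  have key2 : ∀ s : Finset (Fin k), ∃ u ∈ U, Up M u (∑ i ∈ s, Pi.single i (b₀ i)) := by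
    intro s
    induction s using Finset.induction_on with
    | empty =>
      refine ⟨1, one_mem _, ?_⟩
      rw [Finset.sum_empty]
      intro v hv i
      rw [Pi.zero_apply, up_zero, ap_one, one_mul, inv_one, mul_one]
    | insert a s ha ih =>
      obtain ⟨u, hu, hub⟩ := ih
      obtain ⟨v, hv, hvb⟩ := key a (b₀ a)
      refine ⟨v * u, mul_mem hv hu, ?_⟩
      rw [Finset.sum_insert ha]
      exact Up.mul (h.UP hu) hvb hub
  obtain ⟨u, hu, hub⟩ := key2 Finset.univ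
  rw [Finset.univ_sum_single] at hub
  exact ⟨u, hu, hub⟩

/-- **`U_H` offends on `V_P`.** -/
theorem off [Finite F] (hF : 2 < Nat.card F) : Off (zl (S : Subgroup G) P) (zl (S : Subgroup G) H) := by
  refine ⟨FFThm.elem_zl h.hc S h.pair.long.loc, h.pair.ne', ?_⟩
  rw [FFThm.relIndex_le_iff]
  set U := zl (S : Subgroup G) H with hU
  -- `|V : C_V(U)| ≤ q ^ k`
  have h1 : (centralizer (U : Set G)).relIndex (zl (S : Subgroup G) P) ≤ Nat.card (Fin k → F) := by
    let f : (zl (S : Subgroup G) P ⧸ (centralizer (U : Set G)).subgroupOf (zl (S : Subgroup G) P)) → (Fin k → F) :=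
      fun q i => M.e (q.out : zl (S : Subgroup G) P) i 1
    have hinj : Function.Injective f := by
      intro q q' hqq
      have h1 : ∀ i, M.e (q.out : zl (S : Subgroup G) P) i 1 = M.e (q'.out : zl (S : Subgroup G) P) i 1 :=
        fun i => congrFun hqq i
      have h2 : ((q.out : zl (S : Subgroup G) P) : G)⁻¹ * (q'.out : zl (S : Subgroup G) P) ∈
          centralizer (U : Set G) := by
        have hvV : ((q.out : zl (S : Subgroup G) P) : G)⁻¹ * (q'.out : zl (S : Subgroup G) P) ∈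
          zl (S : Subgroup G) P := (zl (S : Subgroup G) P).mul_mem ((zl (S : Subgroup G) P).inv_mem q.out.2) q'.out.2
        have hv1 : ∀ i, M.e (((q.out : zl (S : Subgroup G) P) : G)⁻¹ * (q'.out : zl (S : Subgroup G) P)) i 1 = 0 := by
          intro i
          rw [M.mul _ ((zl (S : Subgroup G) P).inv_mem q.out.2) _ q'.out.2, Pi.add_apply, Pi.add_apply,
            e_inv M q.out.2, Pi.neg_apply, Pi.neg_apply, h1 i, neg_add_cancel]
        obtain ⟨a, ha, d, hd, hvd⟩ := h.exists_mul hvV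
        rw [hvd] at hv1 ⊢
        refine mem_centralizer_iff.2 fun u hu => ?_
        obtain ⟨b, hb⟩ := h.exists_b hu
        have h3 : u * a * u⁻¹ * a⁻¹ = 1 := by
          refine h.inj₀ (h.cm₀ (h.UP hu) ha) (one_mem _) (funext fun i => ?_)
          have h4 := hv1 i
          rw [M.mul _ (h.V₀V ha) _ (h.DV hd), (M.ker d (h.DV hd)).2 hd, add_zero] at h4
          rw [hb.cm (h.UP hu) (h.V₀V ha) i, h4, mul_zero, e_one M]
          apply NatPair.ext2 <;> rfl
        have h5 := mem_centralizer_iff.1 (h.UD hu) d hd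
        calc u * (a * d) = u * a * u⁻¹ * a⁻¹ * (a * (u * d)) := by group
          _ = a * (u * d) := by rw [h3, one_mul]
          _ = a * d * u := by rw [← h5]; group
      have h3 : (QuotientGroup.mk (q.out : zl (S : Subgroup G) P) :
          zl (S : Subgroup G) P ⧸ (centralizer (U : Set G)).subgroupOf (zl (S : Subgroup G) P)) =
          QuotientGroup.mk (q'.out : zl (S : Subgroup G) P) := by
        rw [QuotientGroup.eq, mem_subgroupOf]
        exact h2
      rwa [QuotientGroup.out_eq', QuotientGroup.out_eq'] at h3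
    exact Nat.card_le_card_of_injective f hinj
  refine h1.trans ?_
  choose u hu hub using h.ind hF
  let f : (Fin k → F) → (U ⧸ (centralizer (zl (S : Subgroup G) P : Set G)).subgroupOf U) :=
    fun b => QuotientGroup.mk ⟨u b, hu b⟩
  have hinj : Function.Injective f := by
    intro b b' hbb
    have h2 := QuotientGroup.eq.1 hbb
    rw [mem_subgroupOf] at h2
    change (u b)⁻¹ * u b' ∈ centralizer (zl (S : Subgroup G) P : Set G) at h2
    have h3 : Up M ((u b)⁻¹ * u b') (-b + b') :=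
      Up.mul (h.UP (hu b')) (Up.inv (h.UP (hu b)) (hub b)) (hub b')
    funext i
    have h4 : (-b + b') i = 0 := by
      refine (h.b_zero_iff (mul_mem (inv_mem (h.UP (hu b))) (h.UP (hu b'))) h3 i).2 ?_
      exact centralizer_le (fun v hv => (hv.1.2 : v ∈ zl (S : Subgroup G) P)) h2
    rw [Pi.add_apply, Pi.neg_apply, neg_add_eq_zero] at h4
    exact h4
  exact Nat.card_le_card_of_injective f hinj

end Spl

end Cfsg.Agent.Omega.NOThreeL.RBig.AxRInst
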