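import Cfsg.Agent.Mrg.Omega.NOThreeL.RBig.Pts

section


/-!
# NO-3L, box R (#19087 (3)(c)-(e)): symmetry of "`V_p` moves `r`", lines, common non-neighbours
-/

set_option autoImplicit false

namespace Cfsg.Agent.Omega.NOThreeL.RBig.Pts

open Subgroup
open scoped Pointwise

variable {Γ M : Type*} [Group Γ] [AddCommGroup M] [DistribMulAction Γ M]
variable {X : Subgroup Γ} {Pt : Set (AddSubgroup M)} {VV : AddSubgroup M → Subgroup Γ} {p r s t e x y : AddSubgroup M}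

namespace Frame

variable (F : Frame X Pt VV)
include F

/-- The points moving `p` span `M`. -/
theorem span_mv (hp : p ∈ Pt) : sSup {s | s ∈ Pt ∧ Mv VV s p} = ⊤ := by
  set O := sSup {s | s ∈ Pt ∧ Mv VV s p} with hO
  -- `O` is invariant
  have key : ∀ t ∈ Pt, ∀ g ∈ VV t, ∀ m ∈ O, g • m ∈ O := by
    intro t ht g hg
    by_cases h : Mv VV t p
    · intro m hm
      rw [F.smul_eq g m]
      exact add_mem hm ((le_sSup (show t ∈ {s | s ∈ Pt ∧ Mv VV s p} from ⟨ht, h⟩)) (F.dd_mem ht hg m))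
    · have hgp : g • p = p := smul_eq_of_fix fun z hz => not_mv h hg hz
      have hle : O ≤ (g⁻¹ • O : AddSubgroup M) := by
        refine sSup_le ?_
        rintro s ⟨hs, hsp⟩ z hz
        have hgs : g • s ∈ Pt := F.inv g (F.le t ht hg) s hs
        have h2 : Mv VV (g • s) p := by
          have := (F.mv_smul (r := p) (F.le t ht hg) hs).2 hsp
          rwa [hgp] at this
        have h3 : g • z ∈ O := (le_sSup (show g • s ∈ {s | s ∈ Pt ∧ Mv VV s p} from ⟨hgs, h2⟩)) (mem_smul hz)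
        exact mem_smul_iff.2 ⟨g • z, h3, inv_smul_smul g z⟩
      intro m hm
      obtain ⟨z, hz, rfl⟩ := mem_smul_iff.1 (hle hm)
      rwa [smul_inv_smul]
  obtain ⟨s, hs, hsp⟩ := F.exists_mv' hp
  have hsO : s ≤ O := le_sSup (show s ∈ {s | s ∈ Pt ∧ Mv VV s p} from ⟨hs, hsp⟩)
  have hinv : ∀ g ∈ ⨆ s ∈ Pt, VV s, (∀ m ∈ O, g • m ∈ O) ∧ ∀ m ∈ O, g⁻¹ • m ∈ O := by
    intro g hg
    refine induct (Pt := Pt) (VV := VV) (P := fun g : Γ => (∀ m ∈ O, g • m ∈ O) ∧ ∀ m ∈ O, g⁻¹ • m ∈ O)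
      ⟨fun m hm => by rwa [one_smul], fun m hm => by rwa [inv_one, one_smul]⟩ ?_ ?_ ?_ hg
    · rintro a b ⟨ha, ha'⟩ ⟨hb, hb'⟩
      refine ⟨fun m hm => ?_, fun m hm => ?_⟩
      · rw [mul_smul]
        exact ha _ (hb _ hm)
      · rw [mul_inv_rev, mul_smul]
        exact hb' _ (ha' _ hm)
    · rintro a ⟨ha, ha'⟩
      exact ⟨ha', fun m hm => by rw [inv_inv]; exact ha m hm⟩
    · intro t ht v hv
      refine ⟨key t ht v hv, fun m hm => ?_⟩
      rw [F.inv_eq ht hv]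
      exact key t ht v hv m hm
  rw [eq_top_iff, ← F.span]
  refine sSup_le fun t ht => ?_
  obtain ⟨g, hg, rfl⟩ := F.trans s hs t ht
  intro z hz
  obtain ⟨w, hw, rfl⟩ := mem_smul_iff.1 hz
  exact (hinv g hg).1 w (hsO hw)

variable [Finite M]

/-- **Symmetry** (3)(c). -/
theorem symm (hp : p ∈ Pt) (hr : r ∈ Pt) (h : Mv VV p r) : Mv VV r p := by
  by_contra hno
  have hfix : ∀ g ∈ VV r, ∀ z ∈ p, g • z = z := fun g hg z hz => not_mv hno hg hz
  obtain ⟨v, hv, y0, hy0, hvy0⟩ := h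
  have hcard : Nat.card ↥p = Nat.card ↥r := F.card_eq hp hr
  -- Step A
  have hA : ∀ z ∈ r, v • z = z → z = 0 := by
    by_contra hcon
    push Not at hcon
    obtain ⟨z0, hz0, hvz0, hz0'⟩ := hcon
    obtain ⟨s, hs, hrs⟩ := F.exists_mv hr
    obtain ⟨A, hAle, ⟨a, ha, u, hu, hau⟩, hreg⟩ := F.line r hr s hs hrs
    have hu' := (hreg u).resolve_left fun h => hau (h a ha)
    obtain ⟨b, hb, hbu⟩ := hu'.1 y0 hy0
    have hb' : b ∈ VV r := hAle hb
    have hdb : dd b u = y0 := by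
      have := F.smul_eq b u
      rw [hbu] at this
      exact (add_left_cancel this).symm
    set c := v * (b * v * b⁻¹) with hc
    have hcV : c ∈ VV p := F.comm_mem hp hr hv hb' (hfix b hb')
    have hcd : ∀ m, dd c m = dd v (dd b m) := F.dd_comm hp hr hv hb' (hfix b hb')
    -- `c` fixes every point moving `p`
    have hcfix : ∀ s' ∈ Pt, Mv VV s' p → ∀ z ∈ s', c • z = z := by
      intro s' hs' hs'p
      refine (F.bij p hp s' hs' hs'p c hcV).resolve_right fun hinj => ?_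
      -- `s' → dd v '' r`
      have h1 : Nat.card ↥s' ≤ Nat.card ↥((AddSubgroup.map (dd v : M →+ M) r)) := by
        refine Nat.card_le_card_of_injective
          (fun z : ↥s' => (⟨dd c (z : M), ?_⟩ : ↥(AddSubgroup.map (dd v : M →+ M) r))) ?_
        · rw [hcd]
          exact AddSubgroup.mem_map_of_mem _ (F.dd_mem hr hb' _)
        · intro z z' hzz
          have h2 : dd c (z : M) = dd c (z' : M) := congrArg Subtype.val hzz
          have h3 : dd c ((z : M) - (z' : M)) = 0 := by rw [map_sub, h2, sub_self]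
          have h4 := hinj ((z : M) - (z' : M)) (sub_mem z.2 z'.2) ((F.dd_eq_zero_iff c _).1 h3)
          exact Subtype.ext (sub_eq_zero.1 h4)
      have h2 : Nat.card ↥((AddSubgroup.map (dd v : M →+ M) r)) < Nat.card ↥r := by
        let f : ↥r → ↥((AddSubgroup.map (dd v : M →+ M) r)) := fun z => ⟨dd v (z : M), AddSubgroup.mem_map_of_mem _ z.2⟩
        have hf : Function.Surjective f := by
          rintro ⟨w, hw⟩
          obtain ⟨z, hz, rfl⟩ := AddSubgroup.mem_map.1 hw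
          exact ⟨⟨z, hz⟩, rfl⟩
        refine lt_of_le_of_ne (Nat.card_le_card_of_surjective f hf) fun heq => ?_
        have hbij : Function.Bijective f := by
          have := Fintype.ofFinite ↥r
          have := Fintype.ofFinite ↥((AddSubgroup.map (dd v : M →+ M) r))
          rw [Fintype.bijective_iff_surjective_and_card]
          refine ⟨hf, ?_⟩
          rw [← Nat.card_eq_fintype_card, ← Nat.card_eq_fintype_card, heq]
        have h5 : f ⟨z0, hz0⟩ = f 0 := by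
          apply Subtype.ext
          change dd v z0 = dd v 0
          rw [map_zero, F.dd_eq_zero_iff]
          exact hvz0
        exact hz0' (congrArg Subtype.val (hbij.1 h5))
      have h3 := F.card_eq hs' hr
      omega
    -- so `c` is trivial
    have hct : ∀ m : M, dd c m = 0 := by
      have h1 : sSup {s | s ∈ Pt ∧ Mv VV s p} ≤ (dd c : M →+ M).ker := sSup_le fun s' hs' z hz => by
        rw [AddMonoidHom.mem_ker, F.dd_eq_zero_iff]
        exact hcfix s' hs'.1 hs'.2 z hz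
      rw [F.span_mv hp] at h1
      exact fun m => h1 (AddSubgroup.mem_top m)
    refine hvy0 ((F.dd_eq_zero_iff v y0).1 ?_)
    rw [← hdb, ← hcd, hct]
  -- Step B
  have hinjd : ∀ z ∈ r, ∀ z' ∈ r, dd v z = dd v z' → z = z' := by
    intro z hz z' hz' hzz
    have h3 : dd v (z - z') = 0 := by rw [map_sub, hzz, sub_self]
    exact sub_eq_zero.1 (hA _ (sub_mem hz hz') ((F.dd_eq_zero_iff v _).1 h3))
  let f : ↥(VV r) → ↥(VV p) := fun g => ⟨v * (g * v * (g : Γ)⁻¹), F.comm_mem hp hr hv g.2 (hfix g g.2)⟩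
  have hfd : ∀ g : ↥(VV r), ∀ m, dd ((f g : Γ)) m = dd v (dd (g : Γ) m) := fun g m =>
    F.dd_comm hp hr hv g.2 (hfix g g.2) m
  have hfinj : Function.Injective f := by
    intro g g' hgg
    refine Subtype.ext (F.eq_of_dd hr g.2 g'.2 fun m => ?_)
    refine hinjd _ (F.dd_mem hr g.2 m) _ (F.dd_mem hr g'.2 m) ?_
    rw [← hfd, ← hfd, hgg]
  have hfin : ∀ q ∈ Pt, Finite ↥(VV q) := fun q hq =>
    Finite.of_injective (fun w : ↥(VV q) => fun m : M => dd (w : Γ) m) fun w w' hww =>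
      Subtype.ext (F.eq_of_dd hq w.2 w'.2 fun m => congrFun hww m)
  have := hfin r hr
  have := hfin p hp
  have hfs : Function.Surjective f := by
    have := Fintype.ofFinite ↥(VV r)
    have := Fintype.ofFinite ↥(VV p)
    refine ((Fintype.bijective_iff_injective_and_card f).2 ⟨hfinj, ?_⟩).2
    rw [← Nat.card_eq_fintype_card, ← Nat.card_eq_fintype_card, F.cardVV_eq hr hp]
  obtain ⟨g, hg⟩ := hfs ⟨v, hv⟩
  refine hvy0 ((F.dd_eq_zero_iff v y0).1 ?_)
  have h1 := hfd g y0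
  rw [hg] at h1
  rw [show dd v y0 = dd v (dd (g : Γ) y0) from h1, F.dd_self hr g.2 hy0, map_zero]

theorem symm_iff (hp : p ∈ Pt) (hr : r ∈ Pt) : Mv VV p r ↔ Mv VV r p := ⟨F.symm hp hr, F.symm hr hp⟩

end Frame

end Cfsg.Agent.Omega.NOThreeL.RBig.Pts

end

section


/-!
# NO-3L, box R (#19087 (3)(d), (e)): lines, common movers, the hyperplanes `K p r`
-/

set_option autoImplicit false

namespace Cfsg.Agent.Omega.NOThreeL.RBig.Pts

open Subgroup
open scoped Pointwise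

variable {Γ M : Type*} [Group Γ] [AddCommGroup M] [DistribMulAction Γ M]
variable {X : Subgroup Γ} {Pt : Set (AddSubgroup M)} {VV : AddSubgroup M → Subgroup Γ} {p r s t e x y : AddSubgroup M}

/-- `{v ∈ V_p : v centralises r}`. -/
def K (VV : AddSubgroup M → Subgroup Γ) (p r : AddSubgroup M) : Subgroup Γ where
  carrier := {v | v ∈ VV p ∧ ∀ x ∈ r, v • x = x}
  one_mem' := ⟨one_mem _, fun x _ => one_smul _ x⟩
  mul_mem' := fun {a b} ha hb => ⟨mul_mem ha.1 hb.1, fun x hx => by rw [mul_smul, hb.2 x hx, ha.2 x hx]⟩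
  inv_mem' := fun {a} ha => ⟨inv_mem ha.1, fun x hx => by rw [inv_smul_eq_iff, ha.2 x hx]⟩

theorem mem_K {v : Γ} : v ∈ K VV p r ↔ v ∈ VV p ∧ ∀ x ∈ r, v • x = x := Iff.rfl

theorem K_le : K VV p r ≤ VV p := fun _ h => h.1

namespace Frame

variable (F : Frame X Pt VV)
include F

theorem fin [Finite M] (hp : p ∈ Pt) : Finite ↥(VV p) :=
  Finite.of_injective (fun w : ↥(VV p) => fun m : M => dd (w : Γ) m) fun w w' hww =>
    Subtype.ext (F.eq_of_dd hp w.2 w'.2 fun m => congrFun hww m)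

theorem irrefl (hp : p ∈ Pt) : ¬ Mv VV p p := fun ⟨v, hv, x, hx, h⟩ => h (F.triv p hp v hv x hx)

theorem mem_smul_point (hp : p ∈ Pt) {v : Γ} (hv : v ∈ VV p) (hr : r ∈ Pt) : v • r ∈ Pt :=
  F.inv v (F.le p hp hv) r hr

theorem smul_self (hp : p ∈ Pt) {v : Γ} (hv : v ∈ VV p) : v • p = p := smul_eq_of_fix (F.triv p hp v hv)

/-- `v ∈ V_p` moves `r` : injective on `r`. -/
theorem inj_of_mv (hp : p ∈ Pt) (hr : r ∈ Pt) (h : Mv VV r p) {v : Γ} (hv : v ∈ VV p) {x0 : M} (hx0 : x0 ∈ r)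
    (hne : v • x0 ≠ x0) : ∀ x ∈ r, v • x = x → x = 0 :=
  (F.bij p hp r hr h v hv).resolve_left fun h => hne (h x0 hx0)

variable [Finite M]

theorem inj_of (hp : p ∈ Pt) (hr : r ∈ Pt) {v : Γ} (hv : v ∈ VV p) {x0 : M} (hx0 : x0 ∈ r)
    (hne : v • x0 ≠ x0) : ∀ x ∈ r, v • x = x → x = 0 :=
  F.inj_of_mv hp hr (F.symm hp hr ⟨v, hv, x0, hx0, hne⟩) hv hx0 hne

/-- If `v ∈ V_p` moves `r`, then `dd v : r → p` is onto. -/
theorem onto (hp : p ∈ Pt) (hr : r ∈ Pt) {v : Γ} (hv : v ∈ VV p) {x0 : M} (hx0 : x0 ∈ r)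
    (hne : v • x0 ≠ x0) {z : M} (hz : z ∈ p) : ∃ x ∈ r, dd v x = z := by
  have hinj := F.inj_of hp hr hv hx0 hne
  let f : ↥r → ↥p := fun x => ⟨dd v (x : M), F.dd_mem hp hv _⟩
  have hf : Function.Injective f := by
    intro x x' h
    have h2 : dd v (x : M) = dd v (x' : M) := congrArg Subtype.val h
    have h3 : dd v ((x : M) - (x' : M)) = 0 := by rw [map_sub, h2, sub_self]
    exact Subtype.ext (sub_eq_zero.1 (hinj _ (sub_mem x.2 x'.2) ((F.dd_eq_zero_iff v _).1 h3)))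
  have hfs : Function.Surjective f := by
    have := Fintype.ofFinite ↥r
    have := Fintype.ofFinite ↥p
    refine ((Fintype.bijective_iff_injective_and_card f).2 ⟨hf, ?_⟩).2
    rw [← Nat.card_eq_fintype_card, ← Nat.card_eq_fintype_card, F.card_eq hr hp]
  obtain ⟨x, hx⟩ := hfs ⟨z, hz⟩
  exact ⟨x, x.2, congrArg Subtype.val hx⟩

omit [Finite M] in
/-- The third point: `s` moves `r` but not `p`, `v ∈ V_p` : `s` moves `v • r`. -/
theorem mv_third (hp : p ∈ Pt) {v : Γ} (hv : v ∈ VV p) (hsr : Mv VV s r) (hsp : ¬ Mv VV s p) :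
    Mv VV s (v • r) := by
  obtain ⟨w, hw, x, hx, hne⟩ := hsr
  refine ⟨w, hw, v • x, mem_smul hx, fun h => hne ?_⟩
  rw [F.smul_eq v x, smul_add, not_mv hsp hw (F.dd_mem hp hv x)] at h
  exact add_right_cancel h

omit [Finite M] in
/-- `v ∈ V_p` moves `r`: a point `s` which moves neither `p` nor `v • r` does not move `r`. -/
theorem mv_or_of_line (hp : p ∈ Pt) {v : Γ} (hv : v ∈ VV p) (h1 : ¬ Mv VV s p) :
    Mv VV s (v • r) ↔ Mv VV s r := by
  constructor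
  · intro h
    have := F.mv_third hp (v := v) hv h h1
    rwa [smul_smul, F.sq hp hv, one_smul] at this
  · exact fun h => F.mv_third hp hv h h1

/-- (RED): a path of length 3 can be shortened. -/
theorem red {p0 p1 p2 p3 : AddSubgroup M} (h0 : p0 ∈ Pt) (h1 : p1 ∈ Pt) (h2 : p2 ∈ Pt) (h3 : p3 ∈ Pt)
    (h01 : Mv VV p0 p1) (h12 : Mv VV p1 p2) (h23 : Mv VV p2 p3) : ∃ x ∈ Pt, Mv VV x p0 ∧ Mv VV x p3 := by
  by_cases h02 : Mv VV p0 p2
  · exact ⟨p2, h2, F.symm h0 h2 h02, h23⟩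
  by_cases h13 : Mv VV p1 p3
  · exact ⟨p1, h1, F.symm h0 h1 h01, h13⟩
  obtain ⟨v, hv, z, hz, hne⟩ := h12
  have hx : v • p2 ∈ Pt := F.mem_smul_point h1 hv h2
  refine ⟨v • p2, hx, F.symm h0 hx ?_, F.symm h3 hx ?_⟩
  · -- if `p0` does not move `v • p2` and `p2` it does not move `p1`
    by_contra hno
    obtain ⟨w, hw, y, hy, hwy⟩ := h01
    obtain ⟨a, ha, rfl⟩ := F.onto h1 h2 hv hz hne hy
    refine hwy ?_
    have e1 : w • (v • a) = v • a := not_mv hno hw (mem_smul ha)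
    have e2 : w • a = a := not_mv h02 hw ha
    rw [F.smul_eq v a, smul_add, e2] at e1
    exact add_left_cancel e1
  · have h31 : ¬ Mv VV p3 p1 := fun h => h13 (F.symm h3 h1 h)
    exact F.mv_third h1 hv (F.symm h2 h3 h23) h31

/-- **Any two points are moved by a common point** (3)(d). -/
theorem common (hp : p ∈ Pt) (hs : s ∈ Pt) : ∃ x ∈ Pt, Mv VV x p ∧ Mv VV x s := by
  -- the set of good points is closed under neighbours
  have hstep : ∀ a ∈ Pt, ∀ b ∈ Pt, (∃ x ∈ Pt, Mv VV x p ∧ Mv VV x a) → Mv VV a b →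
      ∃ x ∈ Pt, Mv VV x p ∧ Mv VV x b := by
    rintro a ha b hb ⟨x, hx, hxp, hxa⟩ hab
    exact F.red hp hx ha hb (F.symm hx hp hxp) hxa hab
  have hkey : ∀ t ∈ Pt, ∀ g ∈ VV t, ∀ a ∈ Pt, (∃ x ∈ Pt, Mv VV x p ∧ Mv VV x a) →
      ∃ x ∈ Pt, Mv VV x p ∧ Mv VV x (g • a) := by
    intro t ht g hg a ha h
    by_cases hta : Mv VV t a
    · have h1 := hstep a ha t ht h (F.symm ht ha hta)
      have h2 : Mv VV t (g • a) := by
        have := (F.mv_smul (r := a) (F.le t ht hg) ht).2 hta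
        rwa [F.smul_self ht hg] at this
      exact hstep t ht (g • a) (F.mem_smul_point ht hg ha) h1 h2
    · rwa [smul_eq_of_fix fun z hz => not_mv hta hg hz]
  have hall : ∀ g ∈ ⨆ s ∈ Pt, VV s, (∀ a ∈ Pt, (∃ x ∈ Pt, Mv VV x p ∧ Mv VV x a) →
      ∃ x ∈ Pt, Mv VV x p ∧ Mv VV x (g • a)) ∧ ∀ a ∈ Pt, (∃ x ∈ Pt, Mv VV x p ∧ Mv VV x a) →
      ∃ x ∈ Pt, Mv VV x p ∧ Mv VV x (g⁻¹ • a) := by
    intro g hg
    have hg0 := hg
    suffices H : g ∈ X ∧ (∀ a ∈ Pt, (∃ x ∈ Pt, Mv VV x p ∧ Mv VV x a) →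
      ∃ x ∈ Pt, Mv VV x p ∧ Mv VV x (g • a)) ∧ ∀ a ∈ Pt, (∃ x ∈ Pt, Mv VV x p ∧ Mv VV x a) →
      ∃ x ∈ Pt, Mv VV x p ∧ Mv VV x (g⁻¹ • a) from H.2
    refine induct (Pt := Pt) (VV := VV) (P := fun g : Γ => g ∈ X ∧ (∀ a ∈ Pt, (∃ x ∈ Pt, Mv VV x p ∧ Mv VV x a) →
      ∃ x ∈ Pt, Mv VV x p ∧ Mv VV x (g • a)) ∧ ∀ a ∈ Pt, (∃ x ∈ Pt, Mv VV x p ∧ Mv VV x a) →
      ∃ x ∈ Pt, Mv VV x p ∧ Mv VV x (g⁻¹ • a)) ?_ ?_ ?_ ?_ hg
    · exact ⟨one_mem _, fun a _ h => by rwa [one_smul], fun a _ h => by rwa [inv_one, one_smul]⟩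
    · rintro a b ⟨haX, ha, ha'⟩ ⟨hbX, hb, hb'⟩
      refine ⟨mul_mem haX hbX, fun c hc h => ?_, fun c hc h => ?_⟩
      · rw [mul_smul]
        exact ha _ (F.inv b hbX c hc) (hb c hc h)
      · rw [mul_inv_rev, mul_smul]
        exact hb' _ (F.inv _ (inv_mem haX) c hc) (ha' c hc h)
    · rintro a ⟨haX, ha, ha'⟩
      exact ⟨inv_mem haX, ha', fun c hc h => by rw [inv_inv]; exact ha c hc h⟩
    · intro t ht v hv
      refine ⟨F.le t ht hv, hkey t ht v hv, ?_⟩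
      rw [F.inv_eq ht hv]
      exact hkey t ht v hv
  obtain ⟨x, hx, hxp⟩ := F.exists_mv' hp
  obtain ⟨g, hg, rfl⟩ := F.trans p hp s hs
  exact (hall g hg).1 p hp ⟨x, hx, hxp, hxp⟩

/-- The index of `K p r` in `V_p` is `|p|`. -/
theorem card_K (hp : p ∈ Pt) (hr : r ∈ Pt) (h : Mv VV p r) :
    Nat.card ↥(VV p) = Nat.card ↥p * Nat.card ↥(K VV p r) := by
  have hfin := F.fin hp
  obtain ⟨A, hAle, ⟨a, ha, u, hu, hau⟩, hreg⟩ := F.line p hp r hr h
  have hu' := (hreg u).resolve_left fun h => hau (h a ha)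
  -- the map `v ↦ dd v u`
  let f : ↥(VV p) →* Multiplicative ↥p :=
    { toFun := fun v => Multiplicative.ofAdd (⟨dd (v : Γ) u, F.dd_mem hp v.2 u⟩ : ↥p)
      map_one' := by
        apply congrArg Multiplicative.ofAdd
        apply Subtype.ext
        change dd (1 : Γ) u = 0
        rw [F.dd_eq_zero_iff, one_smul]
      map_mul' := fun v w => by
        rw [← ofAdd_add]
        apply congrArg Multiplicative.ofAdd
        apply Subtype.ext
        exact F.dd_mul hp v.2 w.2 u }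
  have hfs : Function.Surjective f := by
    intro z
    obtain ⟨b, hb, hbu⟩ := hu'.1 (Multiplicative.toAdd z : ↥p) (Multiplicative.toAdd z : ↥p).2
    refine ⟨⟨b, hAle hb⟩, ?_⟩
    apply Multiplicative.toAdd.injective
    apply Subtype.ext
    change dd b u = _
    have := F.smul_eq b u
    rw [hbu] at this
    exact (add_left_cancel this).symm
  have hker : ∀ v : ↥(VV p), v ∈ f.ker ↔ (v : Γ) ∈ K VV p r := by
    intro v
    rw [MonoidHom.mem_ker, mem_K]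
    have h1 : f v = 1 ↔ dd (v : Γ) u = 0 := by
      rw [← toAdd_eq_zero]
      exact Subtype.ext_iff
    rw [h1, F.dd_eq_zero_iff]
    constructor
    · intro hvu
      refine ⟨v.2, ?_⟩
      by_contra hcon
      push Not at hcon
      obtain ⟨x0, hx0, hne⟩ := hcon
      have hu0 := F.inj_of hp hr v.2 hx0 hne u hu hvu
      exact hau (by rw [hu0, smul_zero])
    · exact fun hv => hv.2 u hu
  have h1 : Nat.card ↥f.ker = Nat.card ↥(K VV p r) := by
    refine Nat.card_congr (Equiv.ofBijective (fun v : ↥f.ker => (⟨((v : ↥(VV p)) : Γ), (hker v).1 v.2⟩ : ↥(K VV p r)))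
      ⟨?_, ?_⟩)
    · intro v w hvw
      exact Subtype.ext (Subtype.ext (Subtype.ext_iff.1 hvw :))
    · rintro ⟨v, hv⟩
      exact ⟨⟨⟨v, hv.1⟩, (hker ⟨v, hv.1⟩).2 hv⟩, rfl⟩
  have h2 : Nat.card (Multiplicative ↥p) = Nat.card ↥p := rfl
  rw [← h1, ← h2, ← Nat.card_congr (QuotientGroup.quotientKerEquivOfSurjective f hfs).toEquiv,
    Subgroup.card_eq_card_quotient_mul_card_subgroup f.ker]

/-- (3)(e): `v ∈ V_e` moves `x`, `w ∈ K e x` : `w` acts as `dd v ∘ dd g` for some `g ∈ K x e`. -/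
theorem comp_onto (he : e ∈ Pt) (hx : x ∈ Pt) {v : Γ} (hv : v ∈ VV e) {x0 : M} (hx0 : x0 ∈ x) (hne : v • x0 ≠ x0)
    {w : Γ} (hw : w ∈ K VV e x) : ∃ g ∈ K VV x e, ∀ m : M, dd w m = dd v (dd g m) := by
  have hex : Mv VV e x := ⟨v, hv, x0, hx0, hne⟩
  have hinj := F.inj_of he hx hv hx0 hne
  have hinjd : ∀ z ∈ x, ∀ z' ∈ x, dd v z = dd v z' → z = z' := by
    intro z hz z' hz' hzz
    have h3 : dd v (z - z') = 0 := by rw [map_sub, hzz, sub_self]
    exact sub_eq_zero.1 (hinj _ (sub_mem hz hz') ((F.dd_eq_zero_iff v _).1 h3))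
  have hfe := F.fin he
  have hfx := F.fin hx
  have : Finite ↥(K VV e x) := Finite.of_injective (Subgroup.inclusion (K_le (VV := VV))) (Subgroup.inclusion_injective _)
  have : Finite ↥(K VV x e) := Finite.of_injective (Subgroup.inclusion (K_le (VV := VV))) (Subgroup.inclusion_injective _)
  have hmem : ∀ g ∈ K VV x e, v * (g * v * g⁻¹) ∈ K VV e x := by
    intro g hg
    refine ⟨F.comm_mem he hx hv hg.1 hg.2, fun z hz => ?_⟩
    rw [← F.dd_eq_zero_iff, F.dd_comm he hx hv hg.1 hg.2, F.dd_self hx hg.1 hz, map_zero]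
  let f : ↥(K VV x e) → ↥(K VV e x) := fun g => ⟨v * (g * v * (g : Γ)⁻¹), hmem g g.2⟩
  have hfd : ∀ g : ↥(K VV x e), ∀ m : M, dd ((f g : Γ)) m = dd v (dd (g : Γ) m) := fun g m =>
    F.dd_comm he hx hv g.2.1 g.2.2 m
  have hfinj : Function.Injective f := by
    intro g g' hgg
    refine Subtype.ext (F.eq_of_dd hx g.2.1 g'.2.1 fun m => ?_)
    refine hinjd _ (F.dd_mem hx g.2.1 m) _ (F.dd_mem hx g'.2.1 m) ?_
    rw [← hfd, ← hfd, hgg]
  have hfs : Function.Surjective f := by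
    have := Fintype.ofFinite ↥(K VV x e)
    have := Fintype.ofFinite ↥(K VV e x)
    refine ((Fintype.bijective_iff_injective_and_card f).2 ⟨hfinj, ?_⟩).2
    rw [← Nat.card_eq_fintype_card, ← Nat.card_eq_fintype_card]
    have h1 := F.card_K he hx hex
    have h2 := F.card_K hx he (F.symm he hx hex)
    rw [F.cardVV_eq he hx, h2, F.card_eq hx he] at h1
    have hpos : 0 < Nat.card ↥e := Nat.card_pos
    exact Nat.eq_of_mul_eq_mul_left hpos h1
  obtain ⟨g, hg⟩ := hfs ⟨w, hw⟩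
  refine ⟨g, g.2, fun m => ?_⟩
  rw [← hfd, hg]

omit [Finite M] in
/-- Conversely. -/
theorem comp_mem (he : e ∈ Pt) (hx : x ∈ Pt) {v : Γ} (hv : v ∈ VV e) {g : Γ} (hg : g ∈ K VV x e) :
    ∃ w ∈ K VV e x, ∀ m : M, dd w m = dd v (dd g m) := by
  refine ⟨v * (g * v * g⁻¹), ⟨F.comm_mem he hx hv hg.1 hg.2, fun z hz => ?_⟩, F.dd_comm he hx hv hg.1 hg.2⟩
  rw [← F.dd_eq_zero_iff, F.dd_comm he hx hv hg.1 hg.2, F.dd_self hx hg.1 hz, map_zero]

end Frame

end Cfsg.Agent.Omega.NOThreeL.RBig.Pts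

end

section


/-!
# NO-3L, box R (#19087 (4)): many axes

`Frame.many`: if `|V_p| > |p|`, then points `e`, `p` such that `V_e` centralises `p` are equal.
-/

set_option autoImplicit false

namespace Cfsg.Agent.Omega.NOThreeL.RBig.Pts

open Subgroup
open scoped Pointwise

variable {Γ M : Type*} [Group Γ] [AddCommGroup M] [DistribMulAction Γ M]
variable {X : Subgroup Γ} {Pt : Set (AddSubgroup M)} {VV : AddSubgroup M → Subgroup Γ} {p r s t e x y : AddSubgroup M}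

namespace Frame

variable (F : Frame X Pt VV) [Finite M]
include F

theorem finK (hp : p ∈ Pt) : Finite ↥(K VV p r) := by
  have := F.fin hp
  exact Finite.of_injective (Subgroup.inclusion (K_le (VV := VV))) (Subgroup.inclusion_injective _)

theorem cardK_eq (hp : p ∈ Pt) (hr : r ∈ Pt) (hs : s ∈ Pt) (h1 : Mv VV p r) (h2 : Mv VV p s) :
    Nat.card ↥(K VV p r) = Nat.card ↥(K VV p s) := by
  have e1 := F.card_K hp hr h1
  have e2 := F.card_K hp hs h2
  rw [e1] at e2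
  exact Nat.eq_of_mul_eq_mul_left Nat.card_pos e2

theorem K_eq_of_le (hp : p ∈ Pt) (hr : r ∈ Pt) (hs : s ∈ Pt) (h1 : Mv VV p r) (h2 : Mv VV p s)
    (hle : K VV p r ≤ K VV p s) : K VV p r = K VV p s := by
  have := F.finK (r := r) hp
  have := F.finK (r := s) hp
  exact Subgroup.eq_of_le_of_card_ge hle (F.cardK_eq hp hr hs h1 h2).ge

/-- (4)(a) -/
theorem K_eq (he : e ∈ Pt) (hp : p ∈ Pt) (hx : x ∈ Pt) (hep : ¬ Mv VV e p) (hxe : Mv VV x e) (hxp : Mv VV x p) :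
    K VV x e = K VV x p := by
  refine F.K_eq_of_le hx he hp hxe hxp fun g hg => ?_
  refine ⟨hg.1, ?_⟩
  by_contra hcon
  push Not at hcon
  obtain ⟨z0, hz0, hne⟩ := hcon
  obtain ⟨v, hv, a, ha, hva⟩ := F.symm hx he hxe
  refine hva ?_
  obtain ⟨z, hz, rfl⟩ := F.onto hx hp hg.1 hz0 hne ha
  have hge : g⁻¹ • e = e := smul_eq_of_fix fun w hw => by rw [inv_smul_eq_iff, hg.2 w hw]
  have h1 : g⁻¹ * v * g ∈ VV e := by
    have := F.conj g⁻¹ (inv_mem (F.le x hx hg.1)) e he v hv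
    rwa [hge, inv_inv] at this
  have h2 : (g⁻¹ * v * g) • z = z := not_mv hep h1 hz
  have h3 : v • (g • z) = g • z := by
    rw [mul_smul, mul_smul, inv_smul_eq_iff] at h2
    exact h2
  have h4 : v • z = z := not_mv hep hv hz
  rw [F.smul_eq g z, smul_add, h4] at h3
  exact add_left_cancel h3

/-- (4)(b), first part -/
theorem twin_elt (he : e ∈ Pt) (hp : p ∈ Pt) (hx : x ∈ Pt) (hep : ¬ Mv VV e p) (hxe : Mv VV x e) (hxp : Mv VV x p)
    {f : Γ} (hf : f ∈ K VV e x) : ∃ f' ∈ K VV p x, ∀ m : M, f • m = m ↔ f' • m = m := by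
  obtain ⟨v, hv, x0, hx0, hne⟩ := F.symm hx he hxe
  obtain ⟨h, hh, x1, hx1, hne1⟩ := F.symm hx hp hxp
  obtain ⟨g, hg, hfg⟩ := F.comp_onto he hx hv hx0 hne hf
  have hg' : g ∈ K VV x p := by rwa [← F.K_eq he hp hx hep hxe hxp]
  obtain ⟨w, hw, hwg⟩ := F.comp_mem hp hx hh hg'
  refine ⟨w, hw, fun m => ?_⟩
  rw [← F.dd_eq_zero_iff, ← F.dd_eq_zero_iff, hfg, hwg, F.dd_eq_zero_iff, F.dd_eq_zero_iff]
  have i1 := F.inj_of he hx hv hx0 hne (dd g m) (F.dd_mem hx hg.1 m)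
  have i2 := F.inj_of hp hx hh hx1 hne1 (dd g m) (F.dd_mem hx hg.1 m)
  constructor
  · intro h0
    rw [i1 h0, smul_zero]
  · intro h0
    rw [i2 h0, smul_zero]

omit [Finite M] in
/-- A nontrivial element of `V_p` moves some point. -/
theorem exists_moved (hp : p ∈ Pt) {f : Γ} (hf : f ∈ VV p) (h1 : f ≠ 1) : ∃ y ∈ Pt, ∃ m ∈ y, f • m ≠ m := by
  by_contra hcon
  push Not at hcon
  exact h1 (F.faith p hp f hf (F.top_le_ker hcon))

variable (hbig : ∃ p ∈ Pt, Nat.card ↥p < Nat.card ↥(VV p))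
include hbig

theorem K_ne_bot (he : e ∈ Pt) (hx : x ∈ Pt) (hex : Mv VV e x) : ∃ f ∈ K VV e x, f ≠ 1 := by
  obtain ⟨p, hp, hlt⟩ := hbig
  rw [F.card_eq hp he, F.cardVV_eq hp he, F.card_K he hx hex] at hlt
  have := F.finK (r := x) he
  have h1 : 1 < Nat.card ↥(K VV e x) := by
    by_contra hcon
    have : Nat.card ↥(K VV e x) ≤ 1 := by omega
    have h2 := Nat.mul_le_mul_left (Nat.card ↥e) this
    omega
  have := Finite.one_lt_card_iff_nontrivial.1 h1
  obtain ⟨f, hf⟩ := exists_ne (1 : ↥(K VV e x))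
  exact ⟨f, f.2, fun h => hf (Subtype.ext h)⟩

/-- (4)(b): the same movers. -/
theorem mv_iff_aux (he : e ∈ Pt) (hp : p ∈ Pt) (hep : ¬ Mv VV e p) (hs : s ∈ Pt) (hse : Mv VV s e) : Mv VV s p := by
  by_contra hsp
  have hps : ¬ Mv VV p s := fun h => hsp (F.symm hp hs h)
  -- every common mover has the same hyperplane as `s`
  have key : ∀ x ∈ Pt, Mv VV x e → Mv VV x p → K VV e x = K VV e s := by
    intro x hx hxe hxp
    refine F.K_eq_of_le he hx hs (F.symm hx he hxe) (F.symm hs he hse) fun f hf => ⟨hf.1, fun m hm => ?_⟩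
    obtain ⟨f', hf', hiff⟩ := F.twin_elt he hp hx hep hxe hxp hf
    exact (hiff m).2 (not_mv hps hf'.1 hm)
  obtain ⟨x, hx, hxe, hxp⟩ := F.common he hp
  obtain ⟨f, hf, hf1⟩ := F.K_ne_bot hbig he hx (F.symm hx he hxe)
  obtain ⟨y, hy, m, hm, hfm⟩ := F.exists_moved he hf.1 hf1
  obtain ⟨f', hf', hiff⟩ := F.twin_elt he hp hx hep hxe hxp hf
  have hye : Mv VV y e := F.symm he hy ⟨f, hf.1, m, hm, hfm⟩
  have hyp : Mv VV y p := F.symm hp hy ⟨f', hf'.1, m, hm, fun h => hfm ((hiff m).2 h)⟩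
  have h1 := key x hx hxe hxp
  have h2 := key y hy hye hyp
  rw [← h2] at h1
  rw [h1] at hf
  exact hfm (hf.2 m hm)

theorem mv_iff (he : e ∈ Pt) (hp : p ∈ Pt) (hep : ¬ Mv VV e p) (hs : s ∈ Pt) : Mv VV s e ↔ Mv VV s p :=
  ⟨F.mv_iff_aux hbig he hp hep hs, F.mv_iff_aux hbig hp he (fun h => hep (F.symm hp he h)) hs⟩

omit hbig in
/-- (4)(c): the twin of `a ∈ e` in `p`, seen from `s`. -/
theorem exists_twin (he : e ∈ Pt) (hp : p ∈ Pt) (hs : s ∈ Pt) (hse : Mv VV s e) (hKe : K VV s e = K VV s p)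
    {a : M} (ha : a ∈ e) : ∃ b ∈ p, ∀ g ∈ VV s, g • (a + b) = a + b := by
  obtain ⟨A, hAle, ⟨a1, ha1, x0, hx0, hne⟩, hreg⟩ := F.line s hs e he hse
  have hx00 : x0 ≠ 0 := fun h => hne (by rw [h, smul_zero])
  have ha1' : a1 ∈ VV s := hAle ha1
  have ha1p : ∃ z0 ∈ p, a1 • z0 ≠ z0 := by
    by_contra hcon
    push Not at hcon
    have h1 : a1 ∈ K VV s p := ⟨ha1', hcon⟩
    rw [← hKe] at h1
    exact hne (h1.2 x0 hx0)
  obtain ⟨z0, hz0, hz0'⟩ := ha1p
  obtain ⟨b, hb, hbd⟩ := F.onto hs hp ha1' hz0 hz0' (F.dd_mem hs ha1' a)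
  have hfix1 : a1 • (a + b) = a + b := by
    rw [← F.dd_eq_zero_iff, map_add, hbd, F.two]
  have hne1 : a1 ≠ 1 := fun h => hne (by rw [h, one_smul])
  have hfixA : ∀ c ∈ A, c • (a + b) = a + b := by
    rcases hreg (a + b) with h | h
    · exact h
    · exact absurd (h.2 a1 ha1 hfix1) hne1
  refine ⟨b, hb, fun g hg => ?_⟩
  have hu := (hreg x0).resolve_left fun h => hne (h a1 ha1)
  obtain ⟨c, hc, hcx⟩ := hu.1 (dd g x0) (F.dd_mem hs hg x0)
  have hcV : c ∈ VV s := hAle hc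
  -- `g c ∈ K s e`
  have hk : g * c ∈ K VV s e := by
    refine ⟨mul_mem hg hcV, ?_⟩
    by_contra hcon
    push Not at hcon
    obtain ⟨z, hz, hzne⟩ := hcon
    refine hx00 (F.inj_of hs he (mul_mem hg hcV) hz hzne x0 hx0 ?_)
    rw [← F.dd_eq_zero_iff, F.dd_mul hs hg hcV]
    have h1 : dd c x0 = dd g x0 := by
      have := F.smul_eq c x0
      rw [hcx] at this
      exact (add_left_cancel this).symm
    rw [h1, F.two]
  have hk' : g * c ∈ K VV s p := by rwa [← hKe]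
  have h2 : (g * c) • (a + b) = a + b := by rw [smul_add, hk.2 a ha, hk'.2 b hb]
  rw [mul_smul, hfixA c hc] at h2
  exact h2

omit hbig in
theorem twin_unique (hp : p ∈ Pt) (hs : s ∈ Pt) {w : Γ} (hw : w ∈ VV s) {z0 : M} (hz0 : z0 ∈ p)
    (hne : w • z0 ≠ z0) {a b b' : M} (hb : b ∈ p) (hb' : b' ∈ p) (h : w • (a + b) = a + b)
    (h' : w • (a + b') = a + b') : b = b' := by
  have h1 := F.inj_of hs hp hw hz0 hne (b - b') (sub_mem hb hb') ?_
  · exact sub_eq_zero.1 h1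
  · have e1 : b - b' = (a + b) - (a + b') := by abel
    rw [e1, smul_sub, h, h']

/-- (4)(c): link. -/
theorem link (he : e ∈ Pt) (hp : p ∈ Pt) (hep : ¬ Mv VV e p) (hs : s ∈ Pt) (hse : Mv VV s e)
    (hy : y ∈ Pt) (hye : Mv VV y e) (hK : K VV e s ≠ K VV e y) {a b : M} (ha : a ∈ e) (hb : b ∈ p)
    (hab : ∀ g ∈ VV s, g • (a + b) = a + b) : ∀ g ∈ VV y, g • (a + b) = a + b := by
  have hes := F.symm hs he hse
  have hey := F.symm hy he hye
  have hyp : Mv VV y p := (F.mv_iff hbig he hp hep hy).1 hye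
  have hsp : Mv VV s p := (F.mv_iff hbig he hp hep hs).1 hse
  -- `f ∈ K e s`, `f ∉ K e y`
  obtain ⟨f, hf, hfn⟩ : ∃ f ∈ K VV e s, f ∉ K VV e y := by
    by_contra hcon
    push Not at hcon
    exact hK (F.K_eq_of_le he hs hy hes hey hcon)
  obtain ⟨v, hv, x0, hx0, hne⟩ := hes
  obtain ⟨g0, hg0, hfg⟩ := F.comp_onto he hs hv hx0 hne hf
  obtain ⟨m, hm, hfm⟩ : ∃ m ∈ y, f • m ≠ m := by
    by_contra hcon
    push Not at hcon
    exact hfn ⟨hf.1, hcon⟩
  have hg0m : g0 • m ≠ m := by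
    intro h0
    rw [← F.dd_eq_zero_iff] at h0
    refine hfm ((F.dd_eq_zero_iff f m).1 ?_)
    rw [hfg, h0, map_zero]
  have hsy : Mv VV s y := ⟨g0, hg0.1, m, hm, hg0m⟩
  -- `g' ∈ K s y`, `g' ∉ K s e`
  obtain ⟨g', hg', hg'n⟩ : ∃ g' ∈ K VV s y, g' ∉ K VV s e := by
    by_contra hcon
    push Not at hcon
    have h1 := F.K_eq_of_le hs hy he hsy hse hcon
    rw [← h1] at hg0
    exact hg0m (hg0.2 m hm)
  obtain ⟨z, hz, hg'z⟩ : ∃ z ∈ e, g' • z ≠ z := by
    by_contra hcon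
    push Not at hcon
    exact hg'n ⟨hg'.1, hcon⟩
  obtain ⟨h, hh, s0, hs0, hhs0⟩ := F.symm hs hy hsy
  obtain ⟨w, hw, hwg⟩ := F.comp_mem hy hs hh hg'
  have hwz : w • z ≠ z := by
    intro h0
    rw [← F.dd_eq_zero_iff, hwg, F.dd_eq_zero_iff] at h0
    have := F.inj_of hy hs hh hs0 hhs0 (dd g' z) (F.dd_mem hs hg'.1 z) h0
    exact hg'z ((F.dd_eq_zero_iff g' z).1 this)
  have hwab : w • (a + b) = a + b := by
    rw [← F.dd_eq_zero_iff, hwg, (F.dd_eq_zero_iff g' (a + b)).2 (hab g' hg'.1), map_zero]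
  have hKy := F.K_eq he hp hy hep hye hyp
  obtain ⟨z1, hz1, hwz1⟩ : ∃ z1 ∈ p, w • z1 ≠ z1 := by
    by_contra hcon
    push Not at hcon
    have h1 : w ∈ K VV y p := ⟨hw.1, hcon⟩
    rw [← hKy] at h1
    exact hwz (h1.2 z hz)
  obtain ⟨b', hb', hab'⟩ := F.exists_twin he hp hy hye hKy ha
  have hbb : b = b' := F.twin_unique hp hy hw.1 hz1 hwz1 hb hb' hwab (hab' w hw.1)
  rw [hbb]
  exact hab'

/-- (4)(c): the twin does not depend on `s`. -/
theorem const (he : e ∈ Pt) (hp : p ∈ Pt) (hep : ¬ Mv VV e p) (hs : s ∈ Pt) (hse : Mv VV s e)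
    (hy : y ∈ Pt) (hye : Mv VV y e) {a b : M} (ha : a ∈ e) (hb : b ∈ p)
    (hab : ∀ g ∈ VV s, g • (a + b) = a + b) : ∀ g ∈ VV y, g • (a + b) = a + b := by
  by_cases hK : K VV e s = K VV e y
  · obtain ⟨f, hf, hf1⟩ := F.K_ne_bot hbig he hs (F.symm hs he hse)
    obtain ⟨w, hw, m, hm, hfm⟩ := F.exists_moved he hf.1 hf1
    have hwe : Mv VV w e := F.symm he hw ⟨f, hf.1, m, hm, hfm⟩
    have hKw : K VV e s ≠ K VV e w := fun h => by
      rw [h] at hf
      exact hfm (hf.2 m hm)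
    have h1 := F.link hbig he hp hep hs hse hw hwe hKw ha hb hab
    exact F.link hbig he hp hep hw hwe hy hye (by rw [← hK]; exact hKw.symm) ha hb h1
  · exact F.link hbig he hp hep hs hse hy hye hK ha hb hab

/-- **(4), MANY AXES**: if `V_e` centralises `p`, then `e = p`. -/
theorem many (he : e ∈ Pt) (hp : p ∈ Pt) (hep : ¬ Mv VV e p) : e = p := by
  have hpe : ¬ Mv VV p e := fun h => hep (F.symm hp he h)
  obtain ⟨x, hx, hxe, hxp⟩ := F.common he hp
  have hle : e ≤ p := by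
    intro a ha
    obtain ⟨b, hb, hab⟩ := F.exists_twin he hp hx hxe (F.K_eq he hp hx hep hxe hxp) ha
    have h0 : a + b = 0 := by
      refine F.fixed _ fun s hs v hv => ?_
      by_cases hse : Mv VV s e
      · exact F.const hbig he hp hep hx hxe hs hse ha hb hab v hv
      · have hsp : ¬ Mv VV s p := fun h => hse ((F.mv_iff hbig he hp hep hs).2 h)
        rw [smul_add, not_mv hse hv ha, not_mv hsp hv hb]
    have h1 : a = b := by
      have h2 := F.two b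
      rw [← h2] at h0
      exact add_right_cancel h0
    rwa [h1]
  exact AddSubgroup.eq_of_le_of_card_ge hle (F.card_eq he hp).ge

end Frame

end Cfsg.Agent.Omega.NOThreeL.RBig.Pts

end

section


/-!
# NO-3L, box R (#19087 (5), helper162): one axis

`OneAx` : if `VV p` moves `r`, then `VV p` acts freely on `r`.  Then (helper162's numbering)

* (a) `one_or_all` : a line `Ln s t` has all or exactly one of its points `~ p`;
* (b) `twins` : a point is determined by the set of points moving it;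
* (c) `disjoint` : distinct points are disjoint;
* (d) `exists_conj`, `ax_eq` : `C_M(VV e)` is generated by the points `t ~ e`;
* (e) `inter` : the intersection of the axes of the points `t ~ e` is `e`.
-/

set_option autoImplicit false

namespace Cfsg.Agent.Omega.NOThreeL.RBig.Pts

open Subgroup
open scoped Pointwise

variable {Γ M : Type*} [Group Γ] [AddCommGroup M] [DistribMulAction Γ M]
variable {X : Subgroup Γ} {Pt : Set (AddSubgroup M)} {VV : AddSubgroup M → Subgroup Γ} {p r s t e x y : AddSubgroup M}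

/-- **One axis** : if `VV p` moves `r`, then it acts freely on `r`. -/
def OneAx (Pt : Set (AddSubgroup M)) (VV : AddSubgroup M → Subgroup Γ) : Prop :=
  ∀ p ∈ Pt, ∀ r ∈ Pt, Mv VV p r → ∀ v ∈ VV p, (∀ x ∈ r, v • x = x) → v = 1

/-- The line through `s` and `t` (`s # t`). -/
def Ln (VV : AddSubgroup M → Subgroup Γ) (s t : AddSubgroup M) : Set (AddSubgroup M) :=
  {x | x = s ∨ ∃ v ∈ VV s, x = v • t}

/-- The axis `C_M(VV e)`. -/
def Ax (VV : AddSubgroup M → Subgroup Γ) (e : AddSubgroup M) : AddSubgroup M where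
  carrier := {u | ∀ g ∈ VV e, g • u = u}
  zero_mem' := fun g _ => smul_zero g
  add_mem' := fun {a b} ha hb g hg => by rw [smul_add, ha g hg, hb g hg]
  neg_mem' := fun {a} ha g hg => by rw [smul_neg, ha g hg]

theorem mem_ax {u : M} : u ∈ Ax VV e ↔ ∀ g ∈ VV e, g • u = u := Iff.rfl

theorem not_mv_iff_fix : ¬ Mv VV p r ↔ ∀ v ∈ VV p, ∀ z ∈ r, v • z = z := by
  constructor
  · exact fun h v hv z hz => not_mv h hv hz
  · rintro h ⟨v, hv, z, hz, hne⟩
    exact hne (h v hv z hz)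

namespace Frame

variable (F : Frame X Pt VV)
include F

theorem mv_irrefl (hp : p ∈ Pt) : ¬ Mv VV p p := by
  rintro ⟨v, hv, x, hx, hne⟩
  exact hne (F.triv p hp v hv x hx)

theorem ln_mem (hs : s ∈ Pt) (ht : t ∈ Pt) (hx : x ∈ Ln VV s t) : x ∈ Pt := by
  rcases hx with rfl | ⟨v, hv, rfl⟩
  · exact hs
  · exact F.inv v (F.le s hs hv) t ht

theorem smul_pt (hp : p ∈ Pt) {v : Γ} (hv : v ∈ VV p) : v • p = p := smul_eq_of_fix (F.triv p hp v hv)

theorem exists_ne_one (hp : p ∈ Pt) : ∃ v ∈ VV p, v ≠ 1 := by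
  obtain ⟨r, hr, v, hv, z, hz, hne⟩ := F.exists_mv hp
  refine ⟨v, hv, ?_⟩
  rintro rfl
  exact hne (one_smul _ _)

theorem eq_of_add {a b : M} (h : a + b = 0) : a = b := by
  have := F.two b
  rw [← this] at h
  exact add_right_cancel h

variable [Finite M] (h1 : OneAx Pt VV)
include h1

theorem inj_of_ne (hp : p ∈ Pt) (hr : r ∈ Pt) (h : Mv VV p r) {v : Γ} (hv : v ∈ VV p) (hv1 : v ≠ 1) :
    ∀ z ∈ r, v • z = z → z = 0 :=
  (F.bij p hp r hr (F.symm hp hr h) v hv).resolve_left fun h2 => hv1 (h1 p hp r hr h v hv h2)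

theorem inf_eq_bot_of_mv (hp : p ∈ Pt) (hr : r ∈ Pt) (h : Mv VV p r) : p ⊓ r = ⊥ := by
  rw [eq_bot_iff]
  rintro z ⟨hz, hz'⟩
  obtain ⟨v, hv, hv1⟩ := F.exists_ne_one hp
  exact F.inj_of_ne h1 hp hr h hv hv1 z hz' (F.triv p hp v hv z hz)

/-- `VV p` fixes `u`, or `a ↦ [u, a]` is a bijection of `VV p` onto `p`. -/
theorem dich (hp : p ∈ Pt) (u : M) : (∀ a ∈ VV p, a • u = u) ∨
    ((∀ y ∈ p, ∃ a ∈ VV p, a • u = u + y) ∧ ∀ a ∈ VV p, a • u = u → a = 1) := by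
  obtain ⟨r, hr, hpr⟩ := F.exists_mv hp
  obtain ⟨A, hA, ⟨a0, ha0, x0, hx0, hne⟩, hreg⟩ := F.line p hp r hr hpr
  have hAeq : VV p ≤ A := by
    intro v hv
    obtain ⟨a, ha, hax⟩ := ((hreg x0).resolve_left fun h => hne (h a0 ha0)).1 (dd v x0) (F.dd_mem hp hv x0)
    have h2 : (a⁻¹ * v) • x0 = x0 := by
      rw [mul_smul, F.smul_eq v x0, ← hax, inv_smul_smul]
    have h3 : a⁻¹ * v = 1 := by
      by_contra hne1
      have := F.inj_of_ne h1 hp hr hpr (mul_mem (inv_mem (hA ha)) hv) hne1 x0 hx0 h2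
      exact hne (by rw [this, smul_zero])
    rw [← inv_mul_eq_one.1 h3]
    exact ha
  rcases hreg u with h | h
  · exact Or.inl fun a ha => h a (hAeq ha)
  · refine Or.inr ⟨fun y hy => ?_, fun a ha => h.2 a (hAeq ha)⟩
    obtain ⟨a, ha, h5⟩ := h.1 y hy
    exact ⟨a, hA ha, h5⟩

/-- One non-trivial element of `VV p` decides. -/
theorem fix_all (hp : p ∈ Pt) {v : Γ} (hv : v ∈ VV p) (hv1 : v ≠ 1) {u : M} (hu : v • u = u) :
    ∀ a ∈ VV p, a • u = u :=
  (F.dich h1 hp u).resolve_right fun h => hv1 (h.2 v hv hu)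

theorem surj (hp : p ∈ Pt) (hr : r ∈ Pt) (h : Mv VV p r) {v : Γ} (hv : v ∈ VV p) (hv1 : v ≠ 1) :
    ∀ y ∈ p, ∃ z ∈ r, dd v z = y := by
  let f : ↥r → ↥p := fun z => ⟨dd v (z : M), F.dd_mem hp hv z⟩
  have hf : Function.Injective f := by
    intro z z' hzz
    have h3 : dd v ((z : M) - z') = 0 := by
      rw [map_sub, sub_eq_zero]
      exact congrArg Subtype.val hzz
    have h4 := F.inj_of_ne h1 hp hr h hv hv1 _ (sub_mem z.2 z'.2) ((F.dd_eq_zero_iff v _).1 h3)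
    exact Subtype.ext (sub_eq_zero.1 h4)
  have hs : Function.Surjective f := (hf.bijective_of_nat_card_le (F.card_eq hp hr).le).2
  intro y hy
  obtain ⟨z, hz⟩ := hs ⟨y, hy⟩
  exact ⟨z, z.2, congrArg Subtype.val hz⟩

/-- Every line has a point `~ p`. -/
theorem exists_ln (hp : p ∈ Pt) (hs : s ∈ Pt) (ht : t ∈ Pt) (hst : Mv VV s t) : ∃ x ∈ Ln VV s t, ¬ Mv VV p x := by
  obtain ⟨f, hf, hf1⟩ := F.exists_ne_one hp
  obtain ⟨y, hy, z, hz, hne, hker⟩ : ∃ y ∈ s, ∃ z ∈ t, (y ≠ 0 ∨ z ≠ 0) ∧ f • (y + z) = y + z := by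
    by_contra hcon
    push Not at hcon
    let φ : ↥s × ↥t → ↥p := fun w => ⟨dd f ((w.1 : M) + w.2), F.dd_mem hp hf _⟩
    have hφ : Function.Injective φ := by
      rintro ⟨y, z⟩ ⟨y', z'⟩ hh
      have h3 : dd f (((y : M) - y') + ((z : M) - z')) = 0 := by
        have h4 : dd f ((y : M) + z) = dd f ((y' : M) + z') := congrArg Subtype.val hh
        rw [show ((y : M) - y') + ((z : M) - z') = ((y : M) + z) - ((y' : M) + z') by abel, map_sub, h4, sub_self]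
      have h4 := (F.dd_eq_zero_iff f _).1 h3
      have h5 : ¬ (((y : M) - y') ≠ 0 ∨ ((z : M) - z') ≠ 0) := fun h6 =>
        hcon _ (sub_mem y.2 y'.2) _ (sub_mem z.2 z'.2) h6 h4
      push Not at h5
      exact Prod.ext (Subtype.ext (sub_eq_zero.1 h5.1)) (Subtype.ext (sub_eq_zero.1 h5.2))
    have h6 := Nat.card_le_card_of_injective φ hφ
    rw [Nat.card_prod, F.card_eq hs hp, F.card_eq ht hp] at h6
    have h7 : 1 < Nat.card ↥p := by
      have : Nontrivial ↥p := (AddSubgroup.nontrivial_iff_ne_bot p).2 (F.ne p hp)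
      exact Finite.one_lt_card
    nlinarith
  by_cases hz0 : z = 0
  · subst hz0
    refine ⟨s, Or.inl rfl, fun hps => ?_⟩
    rw [add_zero] at hker
    exact (hne.resolve_right (fun h => h rfl)) (F.inj_of_ne h1 hp hs hps hf hf1 y hy hker)
  · obtain ⟨v, hv, hv1⟩ := F.exists_ne_one hs
    rcases F.dich h1 hs z with h2 | ⟨h2, -⟩
    · exact absurd (F.inj_of_ne h1 hs ht hst hv hv1 z hz (h2 v hv)) hz0
    · obtain ⟨a, ha, hay⟩ := h2 y hy
      refine ⟨a • t, Or.inr ⟨a, ha, rfl⟩, fun hpt => hz0 ?_⟩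
      have h3 : y + z = a • z := by rw [hay, add_comm]
      rw [h3] at hker
      have h4 := F.inj_of_ne h1 hp (F.inv a (F.le s hs ha) t ht) hpt hf hf1 _ (mem_smul hz) hker
      have h5 := congrArg (fun w => a⁻¹ • w) h4
      simpa using h5

/-- Two points of a line which are `~ p` : all points are. -/
theorem all_of_two (hs : s ∈ Pt) (ht : t ∈ Pt) (hst : Mv VV s t) (hx : x ∈ Ln VV s t)
    (hy : y ∈ Ln VV s t) (hxy : x ≠ y) (hpx : ¬ Mv VV p x) (hpy : ¬ Mv VV p y) : ¬ Mv VV p s ∧ ¬ Mv VV p t := by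
  have key : ∀ v ∈ VV s, ¬ Mv VV p s → ¬ Mv VV p (v • t) → ¬ Mv VV p t := by
    rintro v hv h2 h3 ⟨g, hg, z, hz, hne⟩
    apply hne
    have h4 : g • (v • z) = v • z := not_mv h3 hg (mem_smul hz)
    rw [F.smul_eq v z, smul_add, not_mv h2 hg (F.dd_mem hs hv z)] at h4
    exact add_right_cancel h4
  rcases hx with rfl | ⟨v, hv, rfl⟩ <;> rcases hy with rfl | ⟨w, hw, rfl⟩
  · exact absurd rfl hxy
  · exact ⟨hpx, key w hw hpx hpy⟩
  · exact ⟨hpy, key v hv hpy hpx⟩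
  · have hvw : v * w ≠ 1 := by
      intro h
      apply hxy
      have h2 := mul_eq_one_iff_eq_inv.1 h
      rw [F.inv_eq hs hw] at h2
      rw [h2]
    have h5 : ¬ Mv VV p s := by
      rintro ⟨g, hg, z, hz, hne⟩
      obtain ⟨z', hz', rfl⟩ := F.surj h1 hs ht hst (mul_mem hv hw) hvw z hz
      apply hne
      have h6 : dd (v * w) z' = v • z' + w • z' := by
        rw [F.dd_mul hs hv hw, dd_apply, dd_apply, show v • z' + z' + (w • z' + z') = v • z' + w • z' + (z' + z') by abel,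
          F.two, add_zero]
      rw [h6, smul_add, not_mv hpx hg (mem_smul hz'), not_mv hpy hg (mem_smul hz')]
    exact ⟨h5, key v hv h5 hpx⟩

omit [Finite M] h1 in
theorem ln_of_all (hs : s ∈ Pt) (hx : x ∈ Ln VV s t) (hps : ¬ Mv VV p s) (hpt : ¬ Mv VV p t) : ¬ Mv VV p x := by
  rcases hx with rfl | ⟨v, hv, rfl⟩
  · exact hps
  · rintro ⟨g, hg, z, hz, hne⟩
    obtain ⟨w, hw, rfl⟩ := mem_smul_iff.1 hz
    apply hne
    rw [F.smul_eq v w, smul_add, not_mv hpt hg hw, not_mv hps hg (F.dd_mem hs hv w)]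

/-- **(5)(a)** -/
theorem one_or_all (hp : p ∈ Pt) (hs : s ∈ Pt) (ht : t ∈ Pt) (hst : Mv VV s t) :
    (∀ x ∈ Ln VV s t, ¬ Mv VV p x) ∨ ∃! x, x ∈ Ln VV s t ∧ ¬ Mv VV p x := by
  obtain ⟨x, hx, hpx⟩ := F.exists_ln h1 hp hs ht hst
  by_cases h : ∃ y ∈ Ln VV s t, y ≠ x ∧ ¬ Mv VV p y
  · obtain ⟨y, hy, hyx, hpy⟩ := h
    obtain ⟨h2, h3⟩ := F.all_of_two h1 hs ht hst hy hx hyx hpy hpx
    exact Or.inl fun z hz => F.ln_of_all hs hz h2 h3
  · push Not at h
    refine Or.inr ⟨x, ⟨hx, hpx⟩, ?_⟩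
    rintro y ⟨hy, hpy⟩
    by_contra hyx
    exact hpy (h y hy hyx)

/-- The points of a line are pairwise `#`. -/
theorem ln_pair (hs : s ∈ Pt) (ht : t ∈ Pt) (hst : Mv VV s t) (hx : x ∈ Ln VV s t) (hy : y ∈ Ln VV s t)
    (hxy : x ≠ y) : Mv VV x y := by
  by_contra hno
  have hxP := F.ln_mem hs ht hx
  obtain ⟨h2, h3⟩ := F.all_of_two h1 hs ht hst hx hy hxy (F.mv_irrefl hxP) hno
  rcases hx with rfl | ⟨v, hv, rfl⟩
  · exact h3 hst
  · apply h2
    have h4 := (F.mv_smul (r := s) (F.le s hs hv) ht).2 (F.symm hs ht hst)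
    rwa [F.smul_pt hs hv] at h4

/-- `v • s ≠ s` for `1 ≠ v ∈ VV e`, `e # s`. -/
theorem smul_ne (he : e ∈ Pt) (hs : s ∈ Pt) (hes : Mv VV e s) {v : Γ} (hv : v ∈ VV e) (hv1 : v ≠ 1) :
    v • s ≠ s := by
  intro h
  obtain ⟨z, hz, hz0⟩ := (AddSubgroup.bot_or_exists_ne_zero s).resolve_left (F.ne s hs)
  apply hz0
  refine F.inj_of_ne h1 he hs hes hv hv1 z hz ?_
  rw [← F.dd_eq_zero_iff]
  have h2 : v • z ∈ s := by
    rw [← h]
    exact mem_smul hz
  have h3 : dd v z ∈ s := by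
    rw [dd_apply]
    exact add_mem h2 hz
  have h4 : dd v z ∈ e ⊓ s := ⟨F.dd_mem he hv z, h3⟩
  rw [F.inf_eq_bot_of_mv h1 he hs hes] at h4
  exact h4

/-- The step of the proof of `twins`. -/
theorem step_mv (he : e ∈ Pt) (hs : s ∈ Pt) (ht : t ∈ Pt) (hse : Mv VV s e) (hst : Mv VV s t) {u : M}
    (hu : ∀ r ∈ Pt, ¬ Mv VV r e → ∀ g ∈ VV r, g • u = u) (hus : ∀ g ∈ VV s, g • u = u) :
    ∀ g ∈ VV t, g • u = u := by
  intro g hg
  obtain ⟨x, hx, hxe⟩ := F.exists_ln h1 he hs ht hst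
  rcases hx with rfl | ⟨w, hw, rfl⟩
  · exact absurd (F.symm hs he hse) hxe
  · have htP : w • t ∈ Pt := F.inv w (F.le s hs hw) t ht
    have h2 : w * g * w⁻¹ ∈ VV (w • t) := F.conj w (F.le s hs hw) t ht g hg
    have h3 := hu _ htP (fun h => hxe (F.symm htP he h)) _ h2
    rw [mul_smul, mul_smul, hus _ (inv_mem hw)] at h3
    have h4 := congrArg (fun m => w⁻¹ • m) h3
    simp only [inv_smul_smul] at h4
    rw [h4]
    exact hus _ (inv_mem hw)

/-- A vector fixed by all `VV r`, `r ~ e`, and by one `VV s`, `s # e`, is `0`. -/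
theorem eq_zero_of (he : e ∈ Pt) (hs : s ∈ Pt) (hse : Mv VV s e) {u : M}
    (hu : ∀ r ∈ Pt, ¬ Mv VV r e → ∀ g ∈ VV r, g • u = u) (hus : ∀ g ∈ VV s, g • u = u) : u = 0 := by
  refine F.fixed u fun t ht => ?_
  by_cases hte : Mv VV t e
  · by_cases hst : Mv VV s t
    · exact F.step_mv h1 he hs ht hse hst hu hus
    · obtain ⟨v, hv, hv1⟩ := F.exists_ne_one he
      have hes := F.symm hs he hse
      have hxl : v • s ∈ Ln VV e s := Or.inr ⟨v, hv, rfl⟩
      have hsl : s ∈ Ln VV e s := Or.inr ⟨1, one_mem _, (one_smul _ _).symm⟩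
      have hxP := F.ln_mem he hs hxl
      have hne := F.smul_ne h1 he hs hes hv hv1
      have hsx : Mv VV s (v • s) := F.ln_pair h1 he hs hes hsl hxl hne.symm
      have hxe : Mv VV (v • s) e := by
        have h4 := (F.mv_smul (r := e) (F.le e he hv) hs).2 hse
        rwa [F.smul_pt he hv] at h4
      have hxt : Mv VV (v • s) t := by
        by_contra hno
        obtain ⟨h2, -⟩ := F.all_of_two h1 (p := t) he hs hes hsl hxl hne.symm (fun h => hst (F.symm ht hs h))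
          (fun h => hno (F.symm ht hxP h))
        exact h2 hte
      exact F.step_mv h1 he hxP ht hxe hxt hu (F.step_mv h1 he hs hxP hse hsx hu hus)
  · exact hu t ht hte

/-- **(5)(b)** twins. -/
theorem twins (he : e ∈ Pt) (hp : p ∈ Pt) (h : ∀ s ∈ Pt, (Mv VV s e ↔ Mv VV s p)) : e = p := by
  obtain ⟨s, hs, hse⟩ := F.exists_mv' he
  obtain ⟨f, hf, hf1⟩ := F.exists_ne_one hs
  have hle : e ≤ p := by
    intro z hz
    obtain ⟨y, hy, hfy⟩ := F.surj h1 hs hp ((h s hs).1 hse) hf hf1 (dd f z) (F.dd_mem hs hf z)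
    have h2 : z + y = 0 := by
      refine F.eq_zero_of h1 he hs hse (fun r hr hre g hg => ?_) (F.fix_all h1 hs hf hf1 ?_)
      · rw [smul_add, not_mv hre hg hz, not_mv (fun h3 => hre ((h r hr).2 h3)) hg hy]
      · rw [← F.dd_eq_zero_iff, map_add, hfy, F.two]
    rw [F.eq_of_add h2]
    exact hy
  have hcard := F.card_eq he hp
  exact AddSubgroup.eq_of_le_of_card_ge hle hcard.ge

/-- **(5)(c)** distinct points are disjoint. -/
theorem disjoint (he : e ∈ Pt) (hp : p ∈ Pt) (hne : e ≠ p) : e ⊓ p = ⊥ := by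
  by_contra hcon
  obtain ⟨z, hz, hz0⟩ := (AddSubgroup.bot_or_exists_ne_zero (e ⊓ p)).resolve_left hcon
  refine hne (F.twins h1 he hp fun s hs => ?_)
  obtain ⟨v, hv, hv1⟩ := F.exists_ne_one hs
  constructor
  · intro h
    exact ⟨v, hv, z, hz.2, fun h2 => hz0 (F.inj_of_ne h1 hs he h hv hv1 z hz.1 h2)⟩
  · intro h
    exact ⟨v, hv, z, hz.1, fun h2 => hz0 (F.inj_of_ne h1 hs hp h hv hv1 z hz.2 h2)⟩

/-- **(5)(d)**, first half: fix `s # e`; every `r # e` is conjugate to some `t ~ e` under `VV x` for a point `x # e`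
of the line `Ln e s`. -/
theorem exists_conj (he : e ∈ Pt) (hs : s ∈ Pt) (hr : r ∈ Pt) (hse : Mv VV s e) (hre : Mv VV r e) :
    ∃ x ∈ Ln VV e s, Mv VV x e ∧ ∃ w ∈ VV x, ¬ Mv VV (w • r) e := by
  have hes := F.symm hs he hse
  obtain ⟨x0, hx0, hrx0⟩ := F.exists_ln h1 hr he hs hes
  obtain ⟨v, hv, hv1⟩ := F.exists_ne_one he
  have hxl : v • s ∈ Ln VV e s := Or.inr ⟨v, hv, rfl⟩
  have hsl : s ∈ Ln VV e s := Or.inr ⟨1, one_mem _, (one_smul _ _).symm⟩
  have hne := F.smul_ne h1 he hs hes hv hv1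
  have hxe : Mv VV (v • s) e := by
    have h4 := (F.mv_smul (r := e) (F.le e he hv) hs).2 hse
    rwa [F.smul_pt he hv] at h4
  obtain ⟨x, hx, hxx0, hxe'⟩ : ∃ x ∈ Ln VV e s, x ≠ x0 ∧ Mv VV x e := by
    by_cases h : s = x0
    · exact ⟨v • s, hxl, by rw [← h]; exact hne, hxe⟩
    · exact ⟨s, hsl, h, hse⟩
  have hxP := F.ln_mem he hs hx
  have hrx : Mv VV r x := by
    by_contra hno
    exact (F.all_of_two h1 he hs hes hx hx0 hxx0 hno hrx0).1 hre
  obtain ⟨t, ht, het⟩ := F.exists_ln h1 he hxP hr (F.symm hr hxP hrx)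
  rcases ht with rfl | ⟨w, hw, rfl⟩
  · exact absurd (F.symm hxP he hxe') het
  · exact ⟨x, hx, hxe', w, hw, fun h => het (F.symm (F.inv w (F.le x hxP hw) r hr) he h)⟩

/-- **(5)(d)** : the axis of `e` is generated by the points `t ~ e`. -/
theorem ax_eq (he : e ∈ Pt) : Ax VV e = sSup {t | t ∈ Pt ∧ ¬ Mv VV t e} := by
  have hle : sSup {t | t ∈ Pt ∧ ¬ Mv VV t e} ≤ Ax VV e := by
    refine sSup_le ?_
    rintro t ⟨ht, hte⟩ z hz g hg
    exact not_mv (fun h => hte (F.symm he ht h)) hg hz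
  refine le_antisymm ?_ hle
  obtain ⟨s, hs, hse⟩ := F.exists_mv' he
  have hes := F.symm hs he hse
  set T := sSup {t | t ∈ Pt ∧ ¬ Mv VV t e} with hT
  have heT : e ≤ T := le_sSup (show e ∈ {t | t ∈ Pt ∧ ¬ Mv VV t e} from ⟨he, F.mv_irrefl he⟩)
  have htop : T ⊔ s = ⊤ := by
    rw [eq_top_iff, ← F.span]
    refine sSup_le fun r hr => ?_
    by_cases hre : Mv VV r e
    · obtain ⟨x, hx, hxe, w, hw, hwr⟩ := F.exists_conj h1 he hs hr hse hre
      have hxP := F.ln_mem he hs hx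
      have hxle : x ≤ T ⊔ s := by
        rcases hx with rfl | ⟨v, hv, rfl⟩
        · exact absurd hxe (F.mv_irrefl he)
        · intro z hz
          obtain ⟨z', hz', rfl⟩ := mem_smul_iff.1 hz
          rw [F.smul_eq v z']
          exact add_mem ((le_sup_right : s ≤ T ⊔ s) hz') ((le_sup_left : T ≤ T ⊔ s) (heT (F.dd_mem he hv z')))
      intro z hz
      have h2 : w • r ≤ T := le_sSup (show w • r ∈ {t | t ∈ Pt ∧ ¬ Mv VV t e} from
        ⟨F.inv w (F.le x hxP hw) r hr, hwr⟩)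
      have h3 : w • z ∈ T ⊔ s := (le_sup_left : T ≤ T ⊔ s) (h2 (mem_smul hz))
      have h4 : dd w z ∈ T ⊔ s := hxle (F.dd_mem hxP hw z)
      have h5 : z = w • z + dd w z := by
        rw [dd_apply, ← add_assoc, F.two, zero_add]
      rw [h5]
      exact add_mem h3 h4
    · exact le_trans (le_sSup (show r ∈ {t | t ∈ Pt ∧ ¬ Mv VV t e} from ⟨hr, hre⟩)) le_sup_left
  intro u hu
  have hu' : u ∈ T ⊔ s := by rw [htop]; exact AddSubgroup.mem_top u
  obtain ⟨a, ha, b, hb, rfl⟩ := AddSubgroup.mem_sup.1 hu'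
  have h2 : b ∈ Ax VV e := by
    have := sub_mem hu (hle ha)
    rwa [add_sub_cancel_left] at this
  obtain ⟨v, hv, hv1⟩ := F.exists_ne_one he
  have h3 := F.inj_of_ne h1 he hs hes hv hv1 b hb (h2 v hv)
  rw [h3, add_zero]
  exact ha

/-- **(5)(e)** : the intersection of the axes of the points `t ~ e` is `e`. -/
theorem inter (he : e ∈ Pt) {u : M} (hu : ∀ t ∈ Pt, ¬ Mv VV t e → ∀ g ∈ VV t, g • u = u) : u ∈ e := by
  obtain ⟨s, hs, hse⟩ := F.exists_mv' he
  obtain ⟨f, hf, hf1⟩ := F.exists_ne_one hs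
  obtain ⟨z, hz, hfz⟩ := F.surj h1 hs he hse hf hf1 (dd f u) (F.dd_mem hs hf u)
  have h2 : u + z = 0 := by
    refine F.eq_zero_of h1 he hs hse (fun r hr hre g hg => ?_) (F.fix_all h1 hs hf hf1 ?_)
    · rw [smul_add, hu r hr hre g hg, not_mv hre hg hz]
    · rw [← F.dd_eq_zero_iff, map_add, hfz, F.two]
  rw [F.eq_of_add h2]
  exact hz

theorem iInf_ax (he : e ∈ Pt) : ⨅ t ∈ {t | t ∈ Pt ∧ ¬ Mv VV t e}, Ax VV t = e := by
  refine le_antisymm (fun u hu => F.inter h1 he fun t ht hte g hg => ?_) ?_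
  · rw [AddSubgroup.mem_iInf] at hu
    have h2 := hu t
    rw [AddSubgroup.mem_iInf] at h2
    exact h2 ⟨ht, hte⟩ g hg
  · refine le_iInf₂ fun t ht z hz g hg => ?_
    exact not_mv ht.2 hg hz

/-- `M = Ax e + s` for `s # e`. -/
theorem ax_sup (he : e ∈ Pt) (hs : s ∈ Pt) (hes : Mv VV e s) : Ax VV e ⊔ s = ⊤ := by
  rw [eq_top_iff]
  intro u _
  obtain ⟨v, hv, hv1⟩ := F.exists_ne_one he
  obtain ⟨z, hz, hvz⟩ := F.surj h1 he hs hes hv hv1 (dd v u) (F.dd_mem he hv u)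
  refine AddSubgroup.mem_sup.2 ⟨u + z, ?_, z, hz, by rw [add_assoc, F.two, add_zero]⟩
  refine F.fix_all h1 he hv hv1 ?_
  rw [← F.dd_eq_zero_iff, map_add, hvz, F.two]

theorem ax_inf (he : e ∈ Pt) (hs : s ∈ Pt) (hes : Mv VV e s) : Ax VV e ⊓ s = ⊥ := by
  rw [eq_bot_iff]
  rintro z ⟨hz, hz'⟩
  obtain ⟨v, hv, hv1⟩ := F.exists_ne_one he
  exact F.inj_of_ne h1 he hs hes hv hv1 z hz' (hz v hv)

end Frame

end Cfsg.Agent.Omega.NOThreeL.RBig.Pts

end

section


/-!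
# NO-3L, box R (#19087): the abstract dichotomy

`Frame.dichotomy` : either two points `e`, `p` with `V_e` centralising `p` are equal ((4), `|V_p| > |p|`), or there is
one axis and all outputs of (5) hold (`Out`).
-/

set_option autoImplicit false

namespace Cfsg.Agent.Omega.NOThreeL.RBig.Pts

open Subgroup
open scoped Pointwise

variable {Γ M : Type*} [Group Γ] [AddCommGroup M] [DistribMulAction Γ M]
variable {X : Subgroup Γ} {Pt : Set (AddSubgroup M)} {VV : AddSubgroup M → Subgroup Γ} {p r s t e x y : AddSubgroup M}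

namespace Frame

variable (F : Frame X Pt VV) [Finite M]
include F

/-- The outputs of (5). -/
theorem out (h1 : OneAx Pt VV) (he : e ∈ Pt) : Out Pt VV e where
  symm := fun _ hp _ hr h => F.symm hp hr h
  oneAx := h1
  twins := fun _ hp _ hr h => F.twins h1 hp hr h
  disj := fun _ hp _ hr h => F.disjoint h1 hp hr h
  ax := fun m hm => by
    rw [← F.ax_eq h1 he]
    exact hm
  inter := fun _ hm => F.inter h1 he hm

theorem oneAx_of_card (h : ∀ p ∈ Pt, Nat.card ↥(VV p) ≤ Nat.card ↥p) : OneAx Pt VV := by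
  intro p hp r hr hpr v hv hvr
  have h2 := F.card_K hp hr hpr
  have := F.finK (r := r) hp
  have h3 : Nat.card ↥(K VV p r) = 1 := by
    have h4 := h p hp
    rw [h2] at h4
    have h5 : 0 < Nat.card ↥p := Nat.card_pos
    have h6 : 0 < Nat.card ↥(K VV p r) := Nat.card_pos
    nlinarith
  have h4 : v ∈ K VV p r := ⟨hv, hvr⟩
  rw [Subgroup.card_eq_one.1 h3] at h4
  exact Subgroup.mem_bot.1 h4

/-- **The abstract dichotomy.** -/
theorem dichotomy : (∀ e ∈ Pt, ∀ p ∈ Pt, ¬ Mv VV e p → e = p) ∨ (OneAx Pt VV ∧ ∀ e ∈ Pt, Out Pt VV e) := by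
  by_cases h : ∀ p ∈ Pt, Nat.card ↥(VV p) ≤ Nat.card ↥p
  · exact Or.inr ⟨F.oneAx_of_card h, fun e he => F.out (F.oneAx_of_card h) he⟩
  · push Not at h
    obtain ⟨p0, hp0, hlt⟩ := h
    exact Or.inl fun e he p hp hep => F.many ⟨p0, hp0, hlt⟩ he hp hep

end Frame

end Cfsg.Agent.Omega.NOThreeL.RBig.Pts

end
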